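import Mathlib
import Cfsg.Agent.Lib.Small.SL2.ClassSize
import Cfsg.Agent.Lib.Small.SL2.Sylow
import Cfsg.Agent.Lib.Local.FS.SimplePSL2

/-!
Involutions and Sylow subgroups of `PSL(2,q)`, as needed to split class-size recognised groups.
-/

set_option autoImplicit false
set_option linter.unusedSectionVars false
set_option linter.style.haveILetI false
set_option maxHeartbeats 1000000

namespace Cfsg.Agent.Lie.ClassSizePSL

open Matrix Cfsg.Agent.Small Cfsg.Agent.Small.SL2C

variable {F : Type*} [Field F] [Fintype F]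

local notation "SL2" => Matrix.SpecialLinearGroup (Fin 2) F
local notation "P2" => Matrix.ProjectiveSpecialLinearGroup (Fin 2) F

theorem dvd_half {q m i : ℕ} (hq : 7 ≤ q) (hi : (q % 4 = 1 ∧ i = (q + 1) / 2) ∨ (q % 4 = 3 ∧ i = (q - 1) / 2))
    (hcop : Nat.Coprime q m) (hm : m = q - 1 ∨ m = q + 1) (h : q * m ∣ q * i) : False := by
  have h1 := Nat.le_of_dvd (by omega) (Nat.dvd_of_mul_dvd_mul_left (by omega) h)
  omega

/-- An element of `PSL(2,q)` whose class size divides that of the involutions is an involution with that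
class size, and the involutions form one class. -/
theorem invol_class (h2 : (2 : F) ≠ 0) (h7 : 7 ≤ Fintype.card F) {i : ℕ}
    (hi : (Fintype.card F % 4 = 1 ∧ i = (Fintype.card F + 1) / 2) ∨
      (Fintype.card F % 4 = 3 ∧ i = (Fintype.card F - 1) / 2))
    {y : P2} (hy1 : y ≠ 1) (hy : (Subgroup.centralizer ({y} : Set P2)).index ∣ Fintype.card F * i) :
    (Subgroup.centralizer ({y} : Set P2)).index = Fintype.card F * i ∧
      ∀ t : P2, orderOf t = 2 → IsConj y t := by
  classical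
  have hnd : ¬ 2 ∣ Fintype.card F := not_two_dvd_iff.mpr h2
  obtain ⟨g, rfl⟩ := PSL2.pr_surjective y
  have hg : ¬ IsSc g.1 := fun h => hy1 (pr_eq_one_iff.mpr h)
  have h40 : (0 : F) * 0 ≠ 4 := by
    rw [mul_zero]; intro h
    exact mul_ne_zero h2 h2 (by linear_combination -h)
  obtain ⟨s, hs⟩ : ∃ s, Fintype.card F * Fintype.card F = s := ⟨_, rfl⟩
  have hq1 : 1 ≤ Fintype.card F ^ 2 := Nat.one_le_pow _ _ (by omega)
  by_cases ht : g.1.trace * g.1.trace = 4
  · exfalso
    have hp := index_parabolic hg ht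
    rw [card_sq_one_odd h2] at hp
    have hcop : Nat.Coprime (Subgroup.centralizer ({PSL2.pr g} : Set P2)).index (Fintype.card F) := by
      refine Nat.coprime_of_dvd fun r hr h1 h3 => hr.not_dvd_one ?_
      have h4 : r ∣ Fintype.card F ^ 2 - 1 := hp ▸ dvd_mul_of_dvd_left h1 2
      have := Nat.dvd_sub (dvd_pow h3 two_ne_zero) h4
      rwa [Nat.sub_sub_self hq1] at this
    have h1 := Nat.le_of_dvd (by omega) (hcop.dvd_of_dvd_mul_left hy)
    rw [sq, hs] at hp
    have : 7 * Fintype.card F ≤ s := hs ▸ Nat.mul_le_mul_right _ h7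
    omega
  have h := index_semisimple ht
  by_cases h0 : g.1.trace = 0
  · rw [if_pos ⟨h2, h0⟩, h0] at h
    refine ⟨?_, fun t ht2 => ?_⟩
    · rcases hi with ⟨hq, rfl⟩ | ⟨hq, rfl⟩
      · have h1 := h.1 ((roots_zero_iff h2).mpr (by omega))
        rw [← Nat.mul_div_assoc _ (by omega)]
        omega
      · have h1 := h.2 ((roots_cases (by rwa [mul_one])).resolve_right fun h' =>
          (roots_zero_iff h2).mp h' hq)
        rw [← Nat.mul_div_assoc _ (by omega)]
        omega
    · obtain ⟨t', rfl⟩ := PSL2.pr_surjective t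
      obtain ⟨hns, ht'⟩ := Cfsg.Agent.Local.FS.psl2_trace_zero_of_invol h2 ht2
      obtain ⟨c, hc⟩ := isConj_iff.mp (isConj_of_trace hg hns (h0.trans ht'.symm) (Or.inr (by rwa [h0])))
      exact isConj_iff.mpr ⟨PSL2.pr c, by rw [← map_mul, ← map_inv, ← map_mul, hc]⟩
  · exfalso
    rw [if_neg (fun h' => h0 h'.2), mul_one] at h
    rcases roots_cases (t := g.1.trace) (d := 1) (by rwa [mul_one]) with e | e
    · rw [h.2 e] at hy
      have := Nat.le_of_dvd (by omega) (Nat.dvd_of_mul_dvd_mul_left (by omega) hy)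
      rcases hi with ⟨-, rfl⟩ | ⟨-, rfl⟩ <;> omega
    · rw [h.1 e] at hy
      have := Nat.le_of_dvd (by omega) (Nat.dvd_of_mul_dvd_mul_left (by omega) hy)
      rcases hi with ⟨-, rfl⟩ | ⟨-, rfl⟩ <;> omega

/-- The Sylow two-subgroups in odd characteristic have an inverted cyclic subgroup of index two. -/
theorem sylow_two_inverted (h2 : (2 : F) ≠ 0) (S : Sylow 2 P2) :
    ∃ C : Subgroup P2, IsCyclic C ∧
      ∀ s ∈ (S : Subgroup P2), s ∉ C → (∀ c ∈ C, s * c * s⁻¹ = c⁻¹) ∧
        ∀ s' ∈ (S : Subgroup P2), s' ∉ C → s * s' ∈ C := by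
  classical
  have hker : IsPGroup 2 (PSL2.pr (F := F)).ker := by
    refine IsPGroup.of_card (n := 1) ?_
    rw [show (PSL2.pr (F := F)).ker = Subgroup.center SL2 from QuotientGroup.ker_mk' _, center_card_odd h2, pow_one]
  have hrange : (S : Subgroup P2) ≤ (PSL2.pr (F := F)).range := fun x _ => PSL2.pr_surjective x
  obtain ⟨g, k, ht, -, hRn, -, -, -, -⟩ := sylow_two_setup h2 (S.comapOfKerIsPGroup PSL2.pr hker hrange)
  have hg := not_isSc_of_trace ht
  refine ⟨(tor g).map PSL2.pr, ?_, ?_⟩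
  · haveI : IsCyclic (tor g) := isCyclic_centralizer ht
    exact isCyclic_of_surjective (PSL2.pr.subgroupMap (tor g)) (PSL2.pr.subgroupMap_surjective _)
  intro s hs hsC
  obtain ⟨y, rfl⟩ := PSL2.pr_surjective s
  have hinvr : ∀ z : SL2, PSL2.pr z ∈ (S : Subgroup P2) → PSL2.pr z ∉ (tor g).map PSL2.pr →
      z * g = g⁻¹ * z := fun z h1 h2 =>
    (normalizer_cases ht (hRn (show z ∈ _ from h1))).resolve_left fun h => h2 ⟨z, h, rfl⟩
  refine ⟨?_, fun s' hs' hs'C => ?_⟩
  · rintro _ ⟨c, hc, rfl⟩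
    rw [← map_mul, ← map_inv, ← map_mul, ← map_inv]
    refine congrArg PSL2.pr ?_
    rw [mul_inv_eq_iff_eq_mul]
    exact inverts hg (hinvr y hs hsC) hc
  · obtain ⟨y', rfl⟩ := PSL2.pr_surjective s'
    refine ⟨y * y', ?_, map_mul _ _ _⟩
    have e := hinvr y hs hsC
    have e' := hinvr y' hs' hs'C
    have h3 : y * g⁻¹ = g * y := by
      calc y * g⁻¹ = g * (g⁻¹ * y) * g⁻¹ := by group
        _ = g * (y * g) * g⁻¹ := by rw [e]
        _ = g * y := by group
    have h4 : y * y' * g = g * (y * y') := by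
      rw [mul_assoc, e', ← mul_assoc, h3, mul_assoc]
    exact mem_tor.mpr (congrArg Subtype.val h4)

end Cfsg.Agent.Lie.ClassSizePSL
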