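import Mathlib
import Cfsg.Agent.Lib.Lie.PSLSquare.Recognition
import Cfsg.Agent.Lib.Lie.ZassenhausHalfOdd
import Cfsg.Agent.Lib.Lie.ZassenhausOddHalf
import Cfsg.Agent.S0253

/-!
A group of the order of `PSL(2,q)` with commutative Sylow `p`-subgroups in which the elements of order
divisible by `p` are `p`-elements is `PSL(2,q)`, under two conditions on centralisers excluding a
regular normal subgroup and bounding the centralisers of involutions.
-/

set_option autoImplicit false
set_option linter.unusedSectionVars false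
set_option linter.style.haveILetI false
set_option maxHeartbeats 2000000

namespace Cfsg.Agent.Lie.ClassSizePSL

open MulAction
open scoped Pointwise

universe u v

theorem field_card_cases {q q' : ℕ} (hq : IsPrimePow q) (hq' : IsPrimePow q') (hq4 : 4 ≤ q)
    (h : q' * (q' ^ 2 - 1) * Nat.gcd 2 (q - 1) = q * (q ^ 2 - 1) * Nat.gcd 2 (q' - 1))
    (hodd : Odd q → Odd q') : q' = q ∨ (q = 4 ∧ q' = 5) := by
  have hq'1 := hq'.one_lt
  have hg : ∀ n, 2 ≤ n → (Odd n → Nat.gcd 2 (n - 1) = 2) ∧ (Even n → Nat.gcd 2 (n - 1) = 1) := by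
    intro n hn
    refine ⟨fun ⟨i, hi⟩ => Nat.gcd_eq_left ⟨i, by omega⟩, fun ⟨i, hi⟩ => ?_⟩
    rw [Nat.coprime_two_left (n := n - 1) |>.mpr ⟨i - 1, by omega⟩]
  have hmono : StrictMonoOn (fun n : ℕ => n * (n ^ 2 - 1)) (Set.Ici 2) := fun x hx y _ hxy => by
    have hx' : 2 ≤ x := hx
    exact Nat.mul_lt_mul_of_lt_of_le hxy (Nat.sub_le_sub_right (Nat.pow_le_pow_left hxy.le 2) 1)
      (Nat.sub_pos_of_lt (Nat.one_lt_pow (by norm_num) (by omega)))
  rcases Nat.even_or_odd q with he | ho
  · rw [(hg q (by omega)).2 he, mul_one] at h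
    rcases Nat.even_or_odd q' with he' | ho'
    · rw [(hg q' (by omega)).2 he', mul_one] at h
      exact Or.inl (hmono.injOn (show 2 ≤ q' by omega) (show 2 ≤ q by omega) h)
    · rw [(hg q' (by omega)).1 ho'] at h
      have hlt : q < q' := by
        by_contra hle
        rcases (le_of_not_gt hle).lt_or_eq with h' | h'
        · have h2 : q' * (q' ^ 2 - 1) < q * (q ^ 2 - 1) :=
            hmono (show 2 ≤ q' by omega) (show 2 ≤ q by omega) h'
          omega
        · exact Nat.not_even_iff_odd.mpr ho' (h' ▸ he)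
      obtain ⟨r, e, hr, he0, hre⟩ := hq'
      have hrp := hr.nat_prime
      have hr2 : r ≠ 2 := by
        rintro rfl
        exact Nat.not_even_iff_odd.mpr (hre ▸ ho' : Odd (2 ^ e)) (Nat.even_pow.mpr ⟨even_two, he0.ne'⟩)
      obtain ⟨s, f, hs, hf0, hsf⟩ := hq
      have hs2 : s = 2 := ((Nat.prime_dvd_prime_iff_eq Nat.prime_two hs.nat_prime).mp
        (Nat.prime_two.dvd_of_dvd_pow (hsf ▸ he.two_dvd))).symm
      have hcop : ∀ i, Nat.Coprime (r ^ e) (2 ^ i) := fun i =>
        Nat.Coprime.pow e i ((Nat.coprime_primes hrp Nat.prime_two).mpr hr2)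
      have hd : r ^ e ∣ q ^ 2 - 1 := by
        have h1 : r ^ e ∣ q * (q ^ 2 - 1) * 2 := hre ▸ h ▸ dvd_mul_right q' _
        have h2 := (hcop 1).dvd_of_dvd_mul_right h1
        rw [← hsf, hs2] at h2 ⊢
        exact (hcop f).dvd_of_dvd_mul_left h2
      have hle : q' ≤ q + 1 := by
        rw [show q ^ 2 - 1 = (q + 1) * (q - 1) by rw [← Nat.sq_sub_sq, one_pow]] at hd
        by_cases h1 : r ∣ q - 1
        · have hn : ¬ r ∣ q + 1 := fun h2 => hr2 ((Nat.prime_dvd_prime_iff_eq hrp Nat.prime_two).mp (by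
            have := Nat.dvd_sub h2 h1
            rwa [show q + 1 - (q - 1) = 2 by omega] at this))
          have h3 := ((hrp.coprime_iff_not_dvd.mpr hn).pow_left e).dvd_of_dvd_mul_left hd
          have := Nat.le_of_dvd (by omega) h3
          omega
        · have h3 := ((hrp.coprime_iff_not_dvd.mpr h1).pow_left e).dvd_of_dvd_mul_right hd
          have := Nat.le_of_dvd (by omega) h3
          omega
      obtain rfl : q' = q + 1 := by omega
      refine Or.inr ?_
      rw [show (q + 1) ^ 2 - 1 = q * (q + 2) by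
          rw [show (q + 1) ^ 2 = q * (q + 2) + 1 by ring, Nat.add_sub_cancel],
        show q ^ 2 - 1 = (q + 1) * (q - 1) by rw [← Nat.sq_sub_sq, one_pow]] at h
      have h1 : (q + 1) * q * (q + 2) = (q + 1) * q * ((q - 1) * 2) := by linear_combination h
      have := Nat.eq_of_mul_eq_mul_left (by positivity) h1
      omega
  · rw [(hg q (by omega)).1 ho, (hg q' (by omega)).1 (hodd ho)] at h
    exact Or.inl (hmono.injOn (show 2 ≤ q' by omega) (show 2 ≤ q by omega) (Nat.eq_of_mul_eq_mul_right two_pos h))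

theorem pslCongr' {G : Type u} [Group G] {F : Type v} [Field F] [Fintype F] {K : Type} [Field K] [Fintype K]
    (hcard : Nat.card G * Nat.gcd 2 (Fintype.card F - 1) = Fintype.card F * (Fintype.card F ^ 2 - 1))
    (hF : 4 ≤ Fintype.card F) (hodd : Odd (Fintype.card F) → Odd (Fintype.card K))
    (φ : G ≃* Matrix.ProjectiveSpecialLinearGroup (Fin 2) K) :
    Nonempty (G ≃* Matrix.ProjectiveSpecialLinearGroup (Fin 2) F) := by
  have hK := Cfsg.Agent.Classical.Dickson.card_psl K
  rw [← Nat.card_congr φ.toEquiv] at hK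
  rcases field_card_cases (FiniteField.isPrimePow_card F) (FiniteField.isPrimePow_card K) hF (by
    rw [← hK, ← hcard]; ring) hodd with h | ⟨h4, h5⟩
  · exact ⟨φ.trans (Cfsg.Agent.Classical.Dickson.pslCongr (FiniteField.ringEquivOfCardEq h))⟩
  · obtain ⟨e⟩ := Cfsg.Agent.S0253.result (F := K) h5
    obtain ⟨e'⟩ := Cfsg.Agent.S0252.result (F := F) h4
    exact ⟨(φ.trans e).trans e'.symm⟩

variable {G : Type u} [Group G] [Finite G] {p : ℕ} [hp : Fact p.Prime]

theorem psl_of_sylow {F : Type v} [Field F] [Fintype F] {f : ℕ} (hF : Fintype.card F = p ^ f)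
    (hq4 : 4 ≤ Fintype.card F) (hq7 : Odd (Fintype.card F) → 7 ≤ Fintype.card F)
    (hcard : Nat.card G = Nat.card (Matrix.ProjectiveSpecialLinearGroup (Fin 2) F))
    (hC : ∀ g : G, p ∣ orderOf g → ∀ r : ℕ, r.Prime → r ∣ orderOf g → r = p)
    (habQ : ∀ Q : Sylow p G, ∀ a ∈ (Q : Subgroup G), ∀ b ∈ (Q : Subgroup G), a * b = b * a)
    (hreg : ∀ r e : ℕ, r.Prime → Fintype.card F + 1 = r ^ e → ∀ t : G, orderOf t = r →
      Nat.card (Subgroup.centralizer ({t} : Set G)) * Nat.gcd 2 (Fintype.card F - 1) =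
        Fintype.card F ^ 2 - 1 → False)
    (hinv : Fintype.card F % 4 = 3 → ∀ t : G, orderOf t = 2 →
      Nat.card (Subgroup.centralizer ({t} : Set G)) ≤ Fintype.card F + 1) :
    Nonempty (G ≃* Matrix.ProjectiveSpecialLinearGroup (Fin 2) F) := by
  classical
  haveI := Fintype.ofFinite G
  have hcp := Cfsg.Agent.Classical.Dickson.card_psl F
  rw [← hcard] at hcp
  have hcp0 := hcp
  rw [hF] at hcp
  set q := p ^ f with hq
  rw [hF] at hq4 hq7 hreg hinv
  set d := Nat.gcd 2 (q - 1) with hd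
  have hp2 := hp.out.two_le
  have hf0 : f ≠ 0 := by
    intro h0
    rw [hq, h0, pow_zero] at hq4
    omega
  have hd2 : d ≤ 2 := Nat.le_of_dvd (by norm_num) (Nat.gcd_dvd_left _ _)
  have hd0 : 0 < d := Nat.gcd_pos_of_pos_left _ (by norm_num)
  have hpnd : ¬ p ∣ q ^ 2 - 1 := fun h => hp.out.one_lt.ne' (Nat.dvd_one.mp (by
    have h2 : p ∣ q ^ 2 := dvd_pow (dvd_pow_self p hf0) (by norm_num)
    simpa [Nat.sub_sub_self (Nat.one_le_pow 2 q (by omega))] using Nat.dvd_sub h2 h))
  have hpd : ¬ p ∣ d := by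
    intro h
    have h2 : p ∣ q - 1 := h.trans (Nat.gcd_dvd_right _ _)
    have h3 : p ∣ q := dvd_pow_self p hf0
    have := Nat.dvd_sub h3 h2
    rw [Nat.sub_sub_self (by omega), Nat.dvd_one] at this
    exact hp.out.one_lt.ne' this
  obtain ⟨P⟩ := (inferInstance : Nonempty (Sylow p G))
  have hPcard : Nat.card (P : Subgroup G) = q := by
    rw [P.card_eq_multiplicity]
    have h1 := congrArg (fun n => n.factorization p) hcp
    beta_reduce at h1
    rw [Nat.factorization_mul Nat.card_pos.ne' hd0.ne', Nat.factorization_mul (show q ≠ 0 by omega)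
      (show q ^ 2 - 1 ≠ 0 from fun h => hpnd (by rw [h]; exact dvd_zero p)), Finsupp.add_apply, Finsupp.add_apply,
      Nat.factorization_eq_zero_of_not_dvd hpd, Nat.factorization_eq_zero_of_not_dvd hpnd,
      add_zero, add_zero] at h1
    rw [h1, hq, hp.out.factorization_pow, Finsupp.single_eq_same]
  have hcen : ∀ Q : Sylow p G, ∀ {y : G}, y ∈ (Q : Subgroup G) → y ≠ 1 →
      Subgroup.centralizer ({y} : Set G) = (Q : Subgroup G) := fun Q y h1 h2 =>
    PSLSquare.centralizer_eq hC Q (habQ Q) h1 h2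
  have hTI : ∀ Q R : Sylow p G, Q ≠ R → ∀ y, y ∈ (Q : Subgroup G) → y ∈ (R : Subgroup G) →
      y = 1 := by
    intro Q R hne y h1 h2
    by_contra h
    exact hne (Sylow.ext ((hcen Q h1 h).symm.trans (hcen R h2 h)))
  have hmemN : ∀ (Q : Sylow p G) (g : G), g • Q = Q ↔
      g ∈ Subgroup.normalizer ((Q : Subgroup G) : Set G) := fun Q g => Sylow.smul_eq_iff_mem_normalizer
  have hfree : ∀ Q : Sylow p G, Q ≠ P → ∀ u : G, u ∈ (P : Subgroup G) → u • Q = Q → u = 1 := by
    intro Q hne u hu hfix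
    refine hTI Q P hne u ?_ hu
    have h1 : Subgroup.zpowers u ⊓ Subgroup.normalizer ((Q : Subgroup G) : Set G) =
        Subgroup.zpowers u ⊓ (Q : Subgroup G) :=
      (P.2.to_le (Subgroup.zpowers_le.mpr hu)).inf_normalizer_sylow Q
    have h2 : u ∈ Subgroup.zpowers u ⊓ Subgroup.normalizer ((Q : Subgroup G) : Set G) :=
      ⟨Subgroup.mem_zpowers u, (hmemN Q u).mp hfix⟩
    rw [h1] at h2
    exact h2.2
  set N := Subgroup.normalizer ((P : Subgroup G) : Set G) with hN
  have hPN : (P : Subgroup G) ≤ N := Subgroup.le_normalizer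
  -- the action of `P` on the other Sylow subgroups
  let X := {Q : Sylow p G // Q ≠ P}
  letI actX : MulAction (P : Subgroup G) X :=
    { smul := fun u Q => ⟨(u : G) • (Q : Sylow p G), fun h => Q.2 (by
        have h2 : (u : G) • (Q : Sylow p G) = (u : G) • P := by
          rw [h, (hmemN P u).mpr (hPN u.2)]
        exact smul_left_cancel (u : G) h2)⟩
      one_smul := fun Q => Subtype.ext (one_smul G (Q : Sylow p G))
      mul_smul := fun u v Q => Subtype.ext (mul_smul (u : G) (v : G) (Q : Sylow p G)) }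
  have hstabX : ∀ Q : X, MulAction.stabilizer (P : Subgroup G) Q = ⊥ := fun Q =>
    (Subgroup.eq_bot_iff_forall _).mpr fun u hu =>
      Subtype.ext (hfree Q Q.2 u u.2 (congrArg Subtype.val hu))
  obtain ⟨j, hj⟩ : ∃ j, Nat.card (Sylow p G) = 1 + q * j := by
    refine ⟨Nat.card (Quotient (MulAction.orbitRel (P : Subgroup G) X)), ?_⟩
    have h1 := Nat.card_congr (MulAction.selfEquivOrbitsQuotientProd (G := (P : Subgroup G))
      (X := X) hstabX)
    rw [Nat.card_prod, hPcard] at h1
    have h2 : Nat.card (Sylow p G) = Nat.card X + 1 := by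
      rw [← Nat.card_congr (Equiv.optionSubtypeNe P), Finite.card_option]
    rw [h2, h1]; ring
  -- the action of `N` on the non-trivial elements of `P`
  obtain ⟨k, hk⟩ : ∃ k, Nat.card N = q * k := by
    rw [← hPcard]; exact Subgroup.card_dvd_of_le hPN
  have hk0 : 0 < k := Nat.pos_of_ne_zero fun h => Nat.card_pos.ne' (by rw [hk, h, mul_zero])
  let Y := {y : G // y ∈ (P : Subgroup G) ∧ y ≠ 1}
  letI actY : MulAction N Y :=
    { smul := fun g y => ⟨(g : G) * y * (g : G)⁻¹,
        (Subgroup.mem_normalizer_iff.mp g.2 y).mp y.2.1, fun h => y.2.2 (conj_eq_one_iff.mp h)⟩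
      one_smul := fun y => Subtype.ext (show (1 : G) * y * (1 : G)⁻¹ = y by group)
      mul_smul := fun g g' y => Subtype.ext (show ((g : G) * g') * y * ((g : G) * g')⁻¹ =
        (g : G) * ((g' : G) * y * (g' : G)⁻¹) * (g : G)⁻¹ by group) }
  have hkdvd : k ∣ q - 1 := by
    have hY : Nat.card Y = q - 1 := by
      rw [← hPcard]
      have e : Y ≃ {y : (P : Subgroup G) // y ≠ 1} :=
        { toFun := fun y => ⟨⟨y, y.2.1⟩, fun h => y.2.2 (congrArg Subtype.val h)⟩
          invFun := fun y => ⟨y.1, y.1.2, fun h => y.2 (Subtype.ext h)⟩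
          left_inv := fun y => rfl
          right_inv := fun y => rfl }
      rw [Nat.card_congr e, ← Nat.card_congr (Equiv.optionSubtypeNe (1 : (P : Subgroup G))),
        Finite.card_option, Nat.add_sub_cancel]
    have hst : ∀ y : Y, Nat.card (MulAction.stabilizer N y) = q := by
      intro y
      rw [← hPcard, show MulAction.stabilizer N y = (P : Subgroup G).subgroupOf N from
        Subgroup.ext fun g => ?_]
      · exact Nat.card_congr (Subgroup.subgroupOfEquivOfLe hPN).toEquiv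
      rw [Subgroup.mem_subgroupOf, ← hcen P y.2.1 y.2.2, Subgroup.mem_centralizer_singleton_iff,
        MulAction.mem_stabilizer_iff, Subtype.ext_iff]
      exact mul_inv_eq_iff_eq_mul
    rw [← hY, Nat.card_congr (MulAction.selfEquivSigmaOrbits N Y), Nat.card_sigma]
    refine Finset.dvd_sum fun ω _ => ?_
    have h1 := Subgroup.card_mul_index (MulAction.stabilizer N ω.out)
    rw [MulAction.index_stabilizer, hst, hk] at h1
    rw [Nat.card_coe_set_eq]
    exact dvd_of_eq (Nat.eq_of_mul_eq_mul_left (by omega : 0 < q) h1).symm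
  -- arithmetic
  have hnN : Nat.card (Sylow p G) * Nat.card N = Nat.card G := by
    rw [P.card_eq_index_normalizer]
    exact Subgroup.index_mul_card _
  have hkey : k * d = q - 1 ∧ j = 1 := by
    rw [← hnN, hj, hk] at hcp
    have h1 : (1 + q * j) * k * d = q ^ 2 - 1 :=
      Nat.eq_of_mul_eq_mul_left (by omega : 0 < q) (by rw [← hcp]; ring)
    have hkq : k ≤ q - 1 := Nat.le_of_dvd (by omega) hkdvd
    have h2 : k * d + 1 + q * (j * (k * d)) = q * q := by
      have : (1 + q * j) * k * d + 1 = q ^ 2 := by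
        rw [h1]; exact Nat.sub_add_cancel (Nat.one_le_pow _ _ (by omega))
      rw [sq] at this; rw [← this]; ring
    obtain ⟨i, hi⟩ : q ∣ k * d + 1 :=
      (Nat.dvd_add_left (dvd_mul_right q (j * (k * d)))).mp (h2 ▸ dvd_mul_right q q)
    have h3 : k * d ≤ (q - 1) * 2 := Nat.mul_le_mul hkq hd2
    have hi1 : i = 1 := by
      rcases i with _ | _ | i
      · simp at hi
      · rfl
      · exfalso; have : q * 2 ≤ q * (i + 1 + 1) := Nat.mul_le_mul_left q (by omega)
        omega
    rw [hi1, mul_one] at hi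
    refine ⟨by omega, ?_⟩
    rw [hi, show k * d = q - 1 by omega] at h2
    have h4 : q * (j * (q - 1)) = q * (q - 1) := by
      rw [Nat.mul_sub_left_distrib q q 1, mul_one]; omega
    have h5 := Nat.eq_of_mul_eq_mul_left (by omega : 0 < q) h4
    exact Nat.eq_of_mul_eq_mul_right (by omega : 0 < q - 1) (h5.trans (one_mul _).symm)
  obtain ⟨hkd, rfl⟩ := hkey
  have hn : Nat.card (Sylow p G) = q + 1 := by rw [hj]; ring
  -- transitivity
  have htrans : ∀ Q R : Sylow p G, Q ≠ P → R ≠ P → ∃ u ∈ (P : Subgroup G), u • Q = R := by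
    intro Q R hQ hR
    have hXc : Nat.card X = q := by
      have : Nat.card (Sylow p G) = Nat.card X + 1 := by
        rw [← Nat.card_congr (Equiv.optionSubtypeNe P), Finite.card_option]
      omega
    have hinj : Function.Injective (fun u : (P : Subgroup G) => u • (⟨Q, hQ⟩ : X)) := by
      intro u v huv
      have h1 : v⁻¹ * u ∈ MulAction.stabilizer (P : Subgroup G) (⟨Q, hQ⟩ : X) := by
        rw [MulAction.mem_stabilizer_iff, mul_smul, inv_smul_eq_iff]
        exact huv
      rw [hstabX, Subgroup.mem_bot, inv_mul_eq_one] at h1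
      exact h1.symm
    obtain ⟨u, hu⟩ := ((Nat.bijective_iff_injective_and_card _).mpr
      ⟨hinj, by rw [hXc, hPcard]⟩).2 ⟨R, hR⟩
    exact ⟨u, u.2, congrArg Subtype.val hu⟩
  have h2trans : MulAction.IsMultiplyPretransitive G (Sylow p G) 2 := by
    rw [MulAction.is_two_pretransitive_iff]
    intro a b c e hab' hce
    obtain ⟨g₁, hg₁⟩ := MulAction.exists_smul_eq G a P
    obtain ⟨g₂, hg₂⟩ := MulAction.exists_smul_eq G c P
    have h1 : g₁ • b ≠ P := fun h => hab' (smul_left_cancel g₁ (hg₁.trans h.symm))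
    have h2 : g₂ • e ≠ P := fun h => hce (smul_left_cancel g₂ (hg₂.trans h.symm))
    obtain ⟨u, hu, hub⟩ := htrans _ _ h1 h2
    refine ⟨g₂⁻¹ * u * g₁, ?_, ?_⟩
    · rw [mul_smul, mul_smul, hg₁, (hmemN P u).mpr (hPN hu), inv_smul_eq_iff, hg₂]
    · rw [mul_smul, mul_smul, hub, inv_smul_smul]
  have hthreeP : ∀ (g : G) (b c : Sylow p G), b ≠ P → c ≠ P → b ≠ c → g • P = P → g • b = b →
      g • c = c → g = 1 := by
    intro g b c hb hc hbc hgP hgb hgc
    obtain ⟨u, hu, rfl⟩ := htrans b c hb hc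
    have hu1 : u ≠ 1 := fun h => hbc (by rw [h, one_smul])
    have hcP : g * u * g⁻¹ ∈ (P : Subgroup G) :=
      (Subgroup.mem_normalizer_iff.mp ((hmemN P g).mp hgP) u).mp hu
    have hfixb : (g * u * g⁻¹) • b = u • b := by
      rw [mul_smul, mul_smul, inv_smul_eq_iff.mpr hgb.symm, hgc]
    have h1 : u⁻¹ * (g * u * g⁻¹) = 1 := hfree b hb _
      (mul_mem (inv_mem hu) hcP) (by rw [mul_smul, hfixb, inv_smul_smul])
    have hgc' : g ∈ Subgroup.centralizer ({u} : Set G) := by
      rw [Subgroup.mem_centralizer_singleton_iff, ← mul_inv_eq_iff_eq_mul]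
      exact (inv_mul_eq_one.mp h1).symm
    rw [hcen P hu hu1] at hgc'
    exact hfree b hb g hgc' hgb
  have hthree : ∀ (g : G) (a b c : Sylow p G), a ≠ b → b ≠ c → a ≠ c → g • a = a → g • b = b →
      g • c = c → g = 1 := by
    intro g a b c hab' hbc hac hga hgb hgc
    obtain ⟨h, hh⟩ := MulAction.exists_smul_eq G a P
    have key : ∀ x : Sylow p G, g • x = x → (h * g * h⁻¹) • (h • x) = h • x := fun x hx => by
      rw [mul_smul, mul_smul, inv_smul_smul, hx]
    have := hthreeP (h * g * h⁻¹) (h • b) (h • c) (fun e => hab' (smul_left_cancel h (hh.trans e.symm)))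
      (fun e => hac (smul_left_cancel h (hh.trans e.symm))) (fun e => hbc (smul_left_cancel h e))
      (hh ▸ key a hga) (key b hgb) (key c hgc)
    exact conj_eq_one_iff.mp this
  haveI : Fintype (Sylow p G) := Fintype.ofFinite _
  obtain ⟨Q₀, hQ₀, R₀, hR₀, hQR⟩ : ∃ Q₀ : Sylow p G, Q₀ ≠ P ∧ ∃ R₀ : Sylow p G, R₀ ≠ P ∧ Q₀ ≠ R₀ := by
    have : 2 < Fintype.card (Sylow p G) := by rw [← Nat.card_eq_fintype_card, hn]; omega
    obtain ⟨a, b, c, h1, h2, h3⟩ := Fintype.two_lt_card_iff.mp this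
    by_cases ha : a = P
    · exact ⟨b, fun h => h1 (ha.trans h.symm), c, fun h => h2 (ha.trans h.symm), h3⟩
    · by_cases hb : b = P
      · exact ⟨a, ha, c, fun h => h3 (hb.trans h.symm), h2⟩
      · exact ⟨a, ha, b, hb, h1⟩
  have hfaith : FaithfulSMul G (Sylow p G) := ⟨fun {g₁ g₂} h => by
    have := hthree (g₂⁻¹ * g₁) P Q₀ R₀ hQ₀.symm hQR hR₀.symm
      (by rw [mul_smul, h, inv_smul_smul]) (by rw [mul_smul, h, inv_smul_smul])
      (by rw [mul_smul, h, inv_smul_smul])
    exact (inv_mul_eq_one.mp this).symm⟩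
  haveI := hfaith
  have hD : Nat.card ↥(stabilizer G P ⊓ stabilizer G Q₀) = k := by
    have hNeq : stabilizer G P = N := Subgroup.ext fun g => hmemN P g
    rw [hNeq]
    have h1 := Subgroup.card_mul_index (MulAction.stabilizer N Q₀)
    have horb : MulAction.orbit N Q₀ = {Q : Sylow p G | Q ≠ P} := by
      ext Q
      constructor
      · rintro ⟨g, rfl⟩ h
        exact hQ₀ (smul_left_cancel (g : G) (show (g : G) • Q₀ = (g : G) • P by
          rw [show (g : G) • Q₀ = P from h, (hmemN P g).mpr g.2]))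
      · intro hQ
        obtain ⟨u, hu, hu'⟩ := htrans Q₀ Q hQ₀ hQ
        exact ⟨⟨u, hPN hu⟩, hu'⟩
    rw [MulAction.index_stabilizer, horb, hk] at h1
    have hXc : ({Q : Sylow p G | Q ≠ P}).ncard = q := by
      rw [Set.ncard_eq_toFinset_card', Set.toFinset_setOf, Finset.filter_ne', Finset.card_erase_of_mem
        (Finset.mem_univ P), Finset.card_univ, ← Nat.card_eq_fintype_card, hn, Nat.add_sub_cancel]
    rw [hXc, mul_comm] at h1
    rw [← Nat.eq_of_mul_eq_mul_left (by omega : 0 < q) h1]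
    refine (Nat.card_congr ?_).symm
    exact
      { toFun := fun g => ⟨(g : N).1, (g : N).2, g.2⟩
        invFun := fun g => ⟨⟨g.1, g.2.1⟩, g.2.2⟩
        left_inv := fun g => rfl
        right_inv := fun g => rfl }
  have hZ : Cfsg.IsZassenhausGroup G (Sylow p G) := by
    refine ⟨hfaith, h2trans, hthree, ?_, ?_⟩
    · have h1 : 1 < Nat.card ↥(stabilizer G P ⊓ stabilizer G Q₀) := by
        rw [hD]
        rcases Nat.even_or_odd q with he | ho
        · have : d = 1 := by
            obtain ⟨i, hi⟩ := he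
            exact Nat.coprime_two_left.mpr ⟨i - 1, by omega⟩
          rw [this] at hkd; omega
        · have := hq7 ho
          have : k * d ≤ k * 2 := Nat.mul_le_mul_left k hd2
          omega
      haveI := Finite.one_lt_card_iff_nontrivial.mp h1
      obtain ⟨g, hg⟩ := exists_ne (1 : ↥(stabilizer G P ⊓ stabilizer G Q₀))
      exact ⟨g.1, fun h => hg (Subtype.ext h), P, Q₀, hQ₀.symm, g.2.1, g.2.2⟩
    intro M hM hMt
    by_contra hreg'
    push Not at hreg'
    have hMc : Nat.card M = q + 1 := by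
      haveI := hMt
      rw [← hn]
      refine Nat.card_eq_of_bijective (fun m : M => m • P) ⟨?_, ?_⟩
      · intro m m' h
        have h2 : m'⁻¹ * m ∈ MulAction.stabilizer M P := by
          rw [MulAction.mem_stabilizer_iff, mul_smul, inv_smul_eq_iff]; exact h
        rw [hreg' P, Subgroup.mem_bot, inv_mul_eq_one] at h2
        exact h2.symm
      · exact fun Q => MulAction.exists_smul_eq M P Q
    haveI := hMt
    haveI : Nontrivial (Sylow p G) := ⟨⟨P, Q₀, hQ₀.symm⟩⟩
    haveI := hM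
    obtain ⟨-, r, hr, hMp, hMexp⟩ := Zassenhaus.regular_normal_elementary h2trans M hreg'
    haveI : Nontrivial M := Finite.one_lt_card_iff_nontrivial.mp (by rw [hMc]; omega)
    obtain ⟨m, hm1⟩ := exists_ne (1 : M)
    have hmo : orderOf (m : G) = r :=
      haveI := Fact.mk hr
      orderOf_eq_prime (hMexp m m.2) fun h => hm1 (Subtype.ext h)
    haveI := Fact.mk hr
    obtain ⟨e, he⟩ := IsPGroup.iff_card.mp hMp
    refine hreg r e hr (hMc ▸ he) m hmo ?_
    -- the class of `m`
    let Y := {y : M // y ≠ 1}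
    letI actY' : MulAction G Y :=
      { smul := fun g y => ⟨⟨g * (y : M) * g⁻¹, hM.conj_mem _ (y : M).2 g⟩, fun h =>
          y.2 (Subtype.ext (conj_eq_one_iff.mp (congrArg Subtype.val h)))⟩
        one_smul := fun y => Subtype.ext (Subtype.ext (show (1 : G) * (y : M) * (1 : G)⁻¹ = (y : M) by group))
        mul_smul := fun g g' y => Subtype.ext (Subtype.ext (show (g * g') * ((y : M) : G) * (g * g')⁻¹ =
          g * (g' * (y : M) * g'⁻¹) * g⁻¹ by group)) }
    let m' : Y := ⟨m, hm1⟩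
    have hYc : Nat.card Y = q := by
      have h1 := Nat.card_congr (Equiv.optionSubtypeNe (1 : M))
      rw [Finite.card_option, hMc] at h1
      exact Nat.succ_injective h1
    have htr : MulAction.orbit G m' = Set.univ := by
      refine Set.eq_univ_of_forall fun y => ?_
      have hne : ∀ z : M, z ≠ 1 → (z : G) • P ≠ P := fun z hz h => hz (by
        have : z ∈ MulAction.stabilizer M P := h
        rwa [hreg' P, Subgroup.mem_bot] at this)
      obtain ⟨u, hu, hu'⟩ := htrans _ _ (hne m hm1) (hne y y.2)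
      let m'' : M := ⟨u * m * u⁻¹, hM.conj_mem _ m.2 u⟩
      have h3 : (y : M)⁻¹ * m'' ∈ MulAction.stabilizer M P := by
        rw [MulAction.mem_stabilizer_iff, mul_smul, inv_smul_eq_iff]
        show (u * (m : G) * u⁻¹) • P = ((y : M) : G) • P
        rw [mul_smul, mul_smul, inv_smul_eq_iff.mpr ((hmemN P u).mpr (hPN hu)).symm, hu']
      rw [hreg' P, Subgroup.mem_bot, inv_mul_eq_one] at h3
      exact ⟨u, Subtype.ext h3.symm⟩
    have h1 := Subgroup.card_mul_index (MulAction.stabilizer G m')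
    rw [MulAction.index_stabilizer, htr, Set.ncard_univ, hYc,
      show MulAction.stabilizer G m' = Subgroup.centralizer ({(m : G)} : Set G) from Subgroup.ext fun g => by
        rw [MulAction.mem_stabilizer_iff, Subgroup.mem_centralizer_singleton_iff, Subtype.ext_iff, Subtype.ext_iff]
        exact mul_inv_eq_iff_eq_mul] at h1
    rw [← h1] at hcp
    exact Nat.eq_of_mul_eq_mul_left (by omega : 0 < q) (by rw [← hcp]; ring)
  have hcardΩ : Fintype.card (Sylow p G) = q + 1 := by rw [← Nat.card_eq_fintype_card, hn]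
  rcases Nat.even_or_odd q with hqe | hqo
  · -- even order of the field
    have hd1 : d = 1 := by
      obtain ⟨i, hi⟩ := hqe
      exact Nat.coprime_two_left.mpr ⟨i - 1, by omega⟩
    rw [hd1, mul_one] at hkd
    haveI : IsSimpleGroup G := Zassenhaus.isSimple_of_odd hZ (by rw [hcardΩ]; exact hqe.add_one)
    obtain ⟨K, iK, iKF, ⟨φ⟩⟩ := ZassenhausOddHalf.psl_of_sharp_odd hZ hQ₀.symm
      (by rw [hD, hkd]; exact Nat.Even.sub_odd (by omega) hqe odd_one) (by rw [hD, hkd, hcardΩ]; omega)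
    exact pslCongr' hcp0 (hF ▸ hq4) (fun h => absurd hqe (Nat.not_even_iff_odd.mpr (hF ▸ h))) φ
  have hd' : d = 2 := by
    obtain ⟨i, hi⟩ := hqo
    exact Nat.gcd_eq_left ⟨i, by omega⟩
  rw [hd'] at hkd hcp
  have hq7' := hq7 hqo
  rcases Nat.even_or_odd k with hke | hko
  · obtain ⟨K, iK, iKF, -, hKc, ⟨φ⟩⟩ := ZassenhausHalf.psl_of_half hZ hQ₀.symm
      (by rw [hD]; exact hke) (by rw [hD, hcardΩ]; omega)
    have hKq : Fintype.card K = Fintype.card F := by rw [hcardΩ] at hKc; omega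
    exact ⟨φ.trans (Cfsg.Agent.Classical.Dickson.pslCongr (FiniteField.ringEquivOfCardEq hKq))⟩
  -- all elements interchanging two points are involutions
  have hq3 : q % 4 = 3 := by
    obtain ⟨i, hi⟩ := hko
    omega
  haveI : Fact (Nat.Prime 2) := ⟨Nat.prime_two⟩
  let I := {t : G // orderOf t = 2}
  have hNodd : ∀ t : I, (t : G) • P ≠ P := by
    intro t h
    have h1 : orderOf (t : G) ∣ Nat.card N := Subgroup.orderOf_dvd_natCard N ((hmemN P t).mp h)
    rw [t.2, hk] at h1
    rcases Nat.prime_two.dvd_mul.mp h1 with h2 | h2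
    · exact hqo.not_two_dvd_nat h2
    · exact hko.not_two_dvd_nat h2
  have hI : q * k ≤ Nat.card I := by
    obtain ⟨t, ht⟩ := exists_prime_orderOf_dvd_card' (G := G) 2 (by
      rw [← hnN, hj, mul_one]
      exact dvd_mul_of_dvd_left (by obtain ⟨i, hi⟩ := hqo; exact ⟨i + 1, by omega⟩) _)
    have h1 := Subgroup.card_mul_index (Subgroup.centralizer ({t} : Set G))
    have h2 : (Subgroup.centralizer ({t} : Set G)).index ≤ Nat.card I := by
      rw [Subgroup.index]
      refine Nat.card_le_card_of_injective (fun c => ⟨c.out * t * c.out⁻¹, by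
        rw [← MulAut.conj_apply, MulEquiv.orderOf_eq, ht]⟩) fun c c' h => ?_
      have h' : c.out * t * c.out⁻¹ = c'.out * t * c'.out⁻¹ := congrArg Subtype.val h
      rw [← QuotientGroup.out_eq' c, ← QuotientGroup.out_eq' c', QuotientGroup.eq,
        Subgroup.mem_centralizer_singleton_iff]
      calc c.out⁻¹ * c'.out * t = c.out⁻¹ * (c'.out * t * c'.out⁻¹) * c'.out := by group
        _ = c.out⁻¹ * (c.out * t * c.out⁻¹) * c'.out := by rw [h']
        _ = t * (c.out⁻¹ * c'.out) := by group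
    have h3 : Nat.card G ≤ (q + 1) * Nat.card I := h1 ▸ Nat.mul_le_mul (hinv hq3 t ht) h2
    rw [← hnN, hn, hk] at h3
    exact Nat.le_of_mul_le_mul_left h3 (by omega)
  let T := {s : G // s • P = Q₀ ∧ s • Q₀ = P}
  obtain ⟨s₀, hs₀⟩ : ∃ s : G, s • P = Q₀ ∧ s • Q₀ = P :=
    MulAction.is_two_pretransitive_iff.mp h2trans hQ₀.symm hQ₀
  have hT : Nat.card T = k := by
    rw [← hD]
    exact Nat.card_congr
      { toFun := fun s => ⟨s₀⁻¹ * s.1, by
            show (s₀⁻¹ * s.1) • P = P
            rw [mul_smul, s.2.1, inv_smul_eq_iff, hs₀.1], by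
            show (s₀⁻¹ * s.1) • Q₀ = Q₀
            rw [mul_smul, s.2.2, inv_smul_eq_iff, hs₀.2]⟩
        invFun := fun g => ⟨s₀ * g.1, by rw [mul_smul, g.2.1, hs₀.1], by rw [mul_smul, g.2.2, hs₀.2]⟩
        left_inv := fun s => Subtype.ext (mul_inv_cancel_left _ _)
        right_inv := fun g => Subtype.ext (inv_mul_cancel_left _ _) }
  let S := {s : G // (s • P = Q₀ ∧ s • Q₀ = P) ∧ orderOf s = 2}
  have hS : Nat.card I ≤ q * Nat.card S := by
    have hu : ∀ t : I, ∃ u : (P : Subgroup G), (u : G) • Q₀ = (t : G) • P := fun t => by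
      obtain ⟨u, hu, h⟩ := htrans Q₀ _ hQ₀ (hNodd t)
      exact ⟨⟨u, hu⟩, h⟩
    choose u hu using hu
    have hs : ∀ t : I, (((u t : G)⁻¹ * t * (u t)) • P = Q₀ ∧ ((u t : G)⁻¹ * t * (u t)) • Q₀ = P) ∧
        orderOf ((u t : G)⁻¹ * t * (u t)) = 2 := fun t => by
      have huP : (u t : G) • P = P := (hmemN P _).mpr (hPN (u t).2)
      have ho : orderOf ((u t : G)⁻¹ * t * (u t)) = 2 := by
        conv_lhs => rw [show (u t : G)⁻¹ * t * (u t) = MulAut.conj (u t : G)⁻¹ t by simp]
        rw [MulEquiv.orderOf_eq, t.2]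
      refine ⟨⟨by rw [mul_smul, mul_smul, huP, ← hu t, inv_smul_smul], ?_⟩, ho⟩
      rw [mul_smul, mul_smul, hu t, smul_smul (t : G), ← sq, orderOf_dvd_iff_pow_eq_one.mp t.2.dvd, one_smul,
        inv_smul_eq_iff, huP]
    rw [← hPcard, ← Nat.card_prod]
    refine Nat.card_le_card_of_injective (fun t => (u t, (⟨_, hs t⟩ : S))) fun t t' h => ?_
    have h1 : u t = u t' := congrArg Prod.fst h
    have h2 : (u t : G)⁻¹ * t * (u t) = (u t' : G)⁻¹ * t' * (u t') := congrArg (fun x => (x.2 : S).1) h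
    rw [h1] at h2
    exact Subtype.ext (mul_left_cancel (mul_right_cancel h2))
  have hswap : ∀ s : G, s • P = Q₀ → s • Q₀ = P → s * s = 1 ∧
      ∀ x ∈ stabilizer G P ⊓ stabilizer G Q₀, s * x * s⁻¹ = x⁻¹ := by
    have hinj : Function.Injective (fun s : S => (⟨s.1, s.2.1⟩ : T)) := fun a b h =>
      Subtype.ext (congrArg Subtype.val h :)
    have hle : Nat.card T ≤ Nat.card S := by
      rw [hT]
      exact Nat.le_of_mul_le_mul_left (hI.trans hS) (by omega)
    have hsurj := ((Nat.bijective_iff_injective_and_card _).mpr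
      ⟨hinj, le_antisymm (Nat.card_le_card_of_injective _ hinj) hle⟩).2
    have hsq : ∀ s : G, s • P = Q₀ → s • Q₀ = P → s * s = 1 := fun s h h' => by
      obtain ⟨⟨s', hs', ho⟩, he⟩ := hsurj ⟨s, h, h'⟩
      obtain rfl : s' = s := congrArg Subtype.val he
      rw [← sq, ← ho, pow_orderOf_eq_one]
    refine fun s h h' => ⟨hsq s h h', fun x hx => ?_⟩
    have h1 := hsq (s * x) (by rw [mul_smul, hx.1, h]) (by rw [mul_smul, hx.2, h'])
    rw [inv_eq_of_mul_eq_one_right (hsq s h h')]
    calc s * x * s = s * x * (s * x) * x⁻¹ := by group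
      _ = x⁻¹ := by rw [h1, one_mul]
  have hC' : ZassenhausCount.OddCtx G (Sylow p G) P Q₀ q k :=
    ⟨h2trans, hthree, hQ₀.symm, hcardΩ, by omega, hD, hko, by omega, fun x hx y hy => by
      obtain ⟨-, hinv'⟩ := hswap s₀ hs₀.1 hs₀.2
      have h1 := hinv' _ (mul_mem hx hy)
      rw [show s₀ * (x * y) * s₀⁻¹ = s₀ * x * s₀⁻¹ * (s₀ * y * s₀⁻¹) by group, hinv' x hx, hinv' y hy,
        ← mul_inv_rev, inv_inj] at h1
      exact h1.symm, hswap⟩
  obtain ⟨K, iK, iKF, hK2, ⟨φ⟩⟩ := ZassenhausHalfOdd.psl_of_half_odd hC' (by omega) (P : Subgroup G)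
    (fun g hg => (hmemN P g).mpr (hPN hg))
    (fun g hg u hu => (Subgroup.mem_normalizer_iff.mp ((hmemN P g).mp hg) u).mp hu)
    (fun x y => Subtype.ext (habQ P x x.2 y y.2))
    (fun c hc => by
      obtain ⟨u, hu, hu'⟩ := htrans Q₀ c hQ₀ hc
      refine ⟨⟨u, hu⟩, hu', fun v hv => Subtype.ext ?_⟩
      exact (inv_mul_eq_one.mp (hfree Q₀ hQ₀ _ (mul_mem (inv_mem hu) v.2)
        (by rw [mul_smul, hv, ← hu', inv_smul_smul]))).symm)
  exact pslCongr' hcp0 (hF ▸ hq4) (fun _ => Nat.odd_iff.mpr (FiniteField.odd_card_of_char_ne_two hK2)) φ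

end Cfsg.Agent.Lie.ClassSizePSL
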