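import Mathlib
import Cfsg.Agent.Lib.Perm.Fpf.Entry

/-!
If every element of order divisible by `p` is a `p`-element and every `p`-element centralises a
Sylow `p`-subgroup, then the Sylow `p`-subgroups are commutative.
-/

set_option autoImplicit false
set_option linter.unusedSectionVars false
set_option linter.style.haveILetI false
set_option maxHeartbeats 1000000

namespace Cfsg.Agent.Lie.ClassSizePSL

open scoped Pointwise

universe u

/-- No element of order `p` with trivial norms normalises a fixed-point-free element of order `r`. -/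
theorem pow_eq_one_of_norm {V : Type*} [CommGroup V] [Finite V] {r p : ℕ} (hr : r.Prime) (hp : 0 < p)
    (S X : MulAut V) (hfpf : ∀ a, S a = a → a = 1) (hSr : S ^ r = 1)
    (c : ℕ → ℕ) (hc0 : c 0 = 1) (hXS : ∀ j, X ^ j * S = S ^ c j * X ^ j)
    (hc : ∀ j, 0 < j → j < p → ¬ r ∣ r - 1 + c j)
    (hN : ∀ a : V, ∏ j ∈ Finset.range p, (X ^ j) a = 1) (a : V) : a ^ r = 1 := by
  have hsum : ∀ m : ℕ, ¬ r ∣ m → ∀ b : V, ∏ l ∈ Finset.range r, ((S ^ m) ^ l) b = 1 := by
    intro m hm b
    have hf : MonoidHom.FixedPointFree ⇑(S ^ m).toMonoidHom := by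
      intro g hg
      refine hfpf g ?_
      obtain ⟨n, -, hn⟩ := Nat.exists_mul_mod_eq_one_of_coprime
        ((hr.coprime_iff_not_dvd.mpr hm).symm) hr.one_lt
      have h2 : ∀ n : ℕ, ((S ^ m) ^ n) g = g := by
        intro n
        induction n with
        | zero => rfl
        | succ n ih => rw [pow_succ, MulAut.mul_apply, show (S ^ m) g = g from hg, ih]
      have h3 : (S ^ m) ^ n = S := by
        rw [← pow_mul, pow_eq_pow_mod (m * n) hSr, hn, pow_one]
      exact h3 ▸ h2 n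
    have hit : ∀ k, (⇑(S ^ m).toMonoidHom)^[k] = ⇑((S ^ m) ^ k) := by
      intro k
      induction k with
      | zero => rfl
      | succ k ih =>
        funext x
        rw [Function.iterate_succ_apply, ih, pow_succ, MulAut.mul_apply]
        rfl
    have h := hf.prod_pow_eq_one (n := r) (by
      rw [hit, ← pow_mul, mul_comm, pow_mul, hSr, one_pow]
      rfl) b
    simp only [hit] at h
    rw [Finset.prod_eq_multiset_prod, Finset.range_val, Multiset.range, Multiset.map_coe, Multiset.prod_coe]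
    exact h
  have hcomm : ∀ j l, X ^ j * S ^ l = S ^ (l * c j) * X ^ j := by
    intro j l
    induction l with
    | zero => simp
    | succ l ih =>
      rw [pow_succ, ← mul_assoc, ih, mul_assoc, hXS, ← mul_assoc, ← pow_add]
      congr 2
      ring
  have hl : ∀ l, ∏ j ∈ Finset.range p, ((S ^ (r - 1 + c j)) ^ l) ((X ^ j) a) = 1 := by
    intro l
    have h1 := congrArg (S ^ ((r - 1) * l)) (hN ((S ^ l) a))
    rw [map_prod, map_one] at h1
    rw [← h1]
    refine Finset.prod_congr rfl fun j _ => ?_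
    rw [← MulAut.mul_apply, ← MulAut.mul_apply, ← MulAut.mul_apply]
    refine congrArg (fun f : MulAut V => f a) ?_
    rw [mul_assoc (S ^ ((r - 1) * l)), hcomm, ← mul_assoc, ← pow_add, ← pow_mul]
    congr 2
    ring
  have h2 : ∏ j ∈ Finset.range p, ∏ l ∈ Finset.range r, ((S ^ (r - 1 + c j)) ^ l) ((X ^ j) a) = 1 := by
    rw [Finset.prod_comm]
    exact Finset.prod_eq_one fun l _ => hl l
  rw [Finset.prod_eq_single_of_mem 0 (Finset.mem_range.mpr hp) (fun j hj hj0 =>
    hsum _ (hc j (Nat.pos_of_ne_zero hj0) (Finset.mem_range.mp hj)) _)] at h2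
  rw [hc0, Nat.sub_add_cancel hr.one_le, hSr] at h2
  simpa using h2

/-- A group without elements of order two in which, for the primes `r ≠ p`, the `r`-subgroups are
cyclic and normalised by no non-trivial `p`-element, has commuting-closed `p`-elements: its Sylow
`p`-subgroup is unique. -/
theorem subsingleton_sylow {p : ℕ} [hp : Fact p.Prime] : ∀ (n : ℕ) {Y : Type u} [Group Y] [Finite Y],
    Nat.card Y = n →
    (∀ r : ℕ, r.Prime → r ≠ p → ∀ R : Subgroup Y, IsPGroup r R → IsCyclic R) →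
    (∀ r : ℕ, r.Prime → r ≠ p → ∀ R : Subgroup Y, IsPGroup r R → R ≠ ⊥ →
      ∀ x ∈ Subgroup.normalizer (R : Set Y), (∃ k, x ^ p ^ k = 1) → x = 1) →
    ∃ K : Subgroup Y, K.Normal ∧ IsPGroup p K ∧ ∀ x : Y, (∃ k, x ^ p ^ k = 1) → x ∈ K := by
  intro n
  induction n using Nat.strong_induction_on with
  | _ n ih =>
    intro Y _ _ hn hcyc hnorm
    classical
    by_cases hY : ∃ r, r.Prime ∧ r ≠ p ∧ r ∣ Nat.card Y
    swap
    · push Not at hY
      refine ⟨⊤, inferInstance, ?_, fun x _ => Subgroup.mem_top x⟩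
      refine IsPGroup.iff_card.mpr ⟨(Nat.card Y).primeFactorsList.length, ?_⟩
      rw [Subgroup.card_top]
      exact Nat.eq_prime_pow_of_unique_prime_dvd Nat.card_pos.ne' fun {r} h1 h2 => by
        by_contra hne
        exact hY r h1 hne h2
    obtain ⟨r, ⟨hr, hrp, hrY⟩, hmin⟩ := Nat.findX hY
    haveI := Fact.mk hr
    obtain ⟨R⟩ := (inferInstance : Nonempty (Sylow r Y))
    haveI hRc : IsCyclic (R : Subgroup Y) := hcyc r hr hrp R R.2
    have hR1 : (R : Subgroup Y) ≠ ⊥ := R.ne_bot_of_dvd_card hrY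
    have hNC : Subgroup.normalizer ((R : Subgroup Y) : Set Y) ≤
        Subgroup.centralizer ((R : Subgroup Y) : Set Y) := by
      have key := Subgroup.card_dvd_of_injective _
        (QuotientGroup.kerLift_injective (R : Subgroup Y).normalizerMonoidHom)
      rw [Subgroup.normalizerMonoidHom_ker, ← Subgroup.index, ← Subgroup.relIndex] at key
      refine Subgroup.relIndex_eq_one.mp ?_
      by_contra hne
      obtain ⟨l, hl, hld⟩ := Nat.exists_prime_and_dvd hne
      have hlY : l ∣ Nat.card Y := hld.trans ((Subgroup.relIndex_dvd_card _ _).trans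
        (Subgroup.card_subgroup_dvd_card _))
      have hlr : l ≠ r := by
        rintro rfl
        have h1 : ¬ l ∣ (R : Subgroup Y).relIndex (Subgroup.normalizer ((R : Subgroup Y) : Set Y)) :=
          fun h => R.not_dvd_index (h.trans (Subgroup.relIndex_dvd_index_of_le Subgroup.le_normalizer))
        exact h1 (hld.trans (Subgroup.relIndex_dvd_of_le_left _ (R : Subgroup Y).le_centralizer))
      by_cases hlp : l = p
      · subst hlp
        have hlN : l ∣ Nat.card (Subgroup.normalizer ((R : Subgroup Y) : Set Y)) :=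
          hld.trans (Subgroup.relIndex_dvd_card _ _)
        obtain ⟨x, hx⟩ := exists_prime_orderOf_dvd_card' l hlN
        rw [← Subgroup.orderOf_coe] at hx
        have h1 := hnorm r hr hrp R R.2 hR1 x x.2 ⟨1, by rw [pow_one, ← hx, pow_orderOf_eq_one]⟩
        rw [h1, orderOf_one] at hx
        exact hl.ne_one hx.symm
      · have hrl : r < l := by
          rcases Nat.lt_or_ge l r with h | h
          · exact absurd ⟨hl, hlp, hlY⟩ (hmin l h)
          · omega
        obtain ⟨a, ha⟩ := IsPGroup.iff_card.mp R.2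
        have ha0 : 0 < a := Nat.pos_of_ne_zero fun h0 => hR1 (Subgroup.card_eq_one.mp (by
          rw [ha, h0, pow_zero]))
        have h2 := hld.trans key
        rw [hRc.card_mulAut, ha, Nat.totient_prime_pow hr ha0] at h2
        rcases hl.dvd_mul.mp h2 with h3 | h3
        · exact hlr ((Nat.prime_dvd_prime_iff_eq hl hr).mp (hl.dvd_of_dvd_pow h3))
        · have := Nat.le_of_dvd (by have := hr.two_le; omega) h3
          omega
    set K := (MonoidHom.transferSylow R hNC).ker with hK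
    have hKc : Nat.card K < n := by
      have h1 := Subgroup.card_mul_index K
      have h2 : K.index = Nat.card (R : Subgroup Y) :=
        (MonoidHom.ker_transferSylow_isComplement' R hNC).symm.index_eq_card
      have h3 : 1 < Nat.card (R : Subgroup Y) := by
        haveI := (Subgroup.nontrivial_iff_ne_bot _).mpr hR1
        exact Finite.one_lt_card
      rw [← hn, ← h1, h2]
      exact lt_mul_of_one_lt_right Nat.card_pos h3
    have hpK : ∀ x : Y, (∃ k, x ^ p ^ k = 1) → x ∈ K := by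
      rintro x ⟨k, hk⟩
      rw [hK, MonoidHom.mem_ker]
      obtain ⟨a, ha⟩ := IsPGroup.iff_card.mp R.2
      have h1 := pow_gcd_eq_one.mpr ⟨(show (MonoidHom.transferSylow R hNC x) ^ p ^ k = 1 by
          rw [← map_pow, hk, map_one]),
        (show (MonoidHom.transferSylow R hNC x) ^ r ^ a = 1 by rw [← ha]; exact pow_card_eq_one')⟩
      rwa [Nat.Coprime.gcd_eq_one (Nat.Coprime.pow _ _ ((Nat.coprime_primes hp.out hr).mpr hrp.symm)),
        pow_one] at h1
    obtain ⟨L, hLn, hLp, hL⟩ := ih _ hKc (Y := K) rfl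
      (fun r' h1 h2 R' hR' => by
        haveI := hcyc r' h1 h2 (R'.map K.subtype) (hR'.map _)
        exact isCyclic_of_surjective (R'.equivMapOfInjective _ K.subtype_injective).symm.toMonoidHom
          (MulEquiv.surjective _))
      (fun r' h1 h2 R' hR' hne x hx ⟨k, hk⟩ => Subtype.ext (hnorm r' h1 h2 (R'.map K.subtype) (hR'.map _)
        (fun h => hne ((Subgroup.map_eq_bot_iff_of_injective _ K.subtype_injective).mp h)) x
        (Subgroup.le_normalizer_map _ ⟨x, hx, rfl⟩) ⟨k, congrArg Subtype.val hk⟩))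
    refine ⟨L.map K.subtype, ?_, hLp.map _, fun x hx => ?_⟩
    · refine ⟨fun g hg y => ?_⟩
      obtain ⟨g', hg', rfl⟩ := hg
      obtain ⟨k, hk⟩ := hLp ⟨g', hg'⟩
      have hk' : (g' : Y) ^ p ^ k = 1 := congrArg (fun z : L => ((z : K) : Y)) hk
      have h1 : (y * (g' : Y) * y⁻¹) ^ p ^ k = 1 := by rw [conj_pow, hk', mul_one, mul_inv_cancel]
      refine ⟨⟨_, hpK _ ⟨k, h1⟩⟩, hL _ ⟨k, Subtype.ext h1⟩, rfl⟩
    · obtain ⟨k, hk⟩ := hx
      exact ⟨⟨x, hpK x ⟨k, hk⟩⟩, hL _ ⟨k, Subtype.ext hk⟩, rfl⟩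

variable {X : Type u} [Group X] [Finite X] {p : ℕ} [hp : Fact p.Prime]

/-- Centralisers of non-trivial `p`-elements are `p`-groups. -/
theorem cent_isPGroup (hC : ∀ g : X, p ∣ orderOf g → ∀ r : ℕ, r.Prime → r ∣ orderOf g → r = p)
    {w : X} (hw1 : w ≠ 1) (hw : ∃ k, w ^ p ^ k = 1) :
    IsPGroup p (Subgroup.centralizer ({w} : Set X)) := by
  obtain ⟨e, he⟩ := hw
  obtain ⟨m, -, hm⟩ := (Nat.dvd_prime_pow hp.out).mp (orderOf_dvd_of_pow_eq_one he)
  have hpw : p ∣ orderOf w := by
    rcases m with _ | m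
    · exact absurd (orderOf_eq_one_iff.mp (hm.trans (pow_zero p))) hw1
    · rw [hm]; exact dvd_pow_self p (Nat.succ_ne_zero m)
  refine IsPGroup.iff_card.mpr ?_
  refine ⟨_, Nat.eq_prime_pow_of_unique_prime_dvd Nat.card_pos.ne' fun {r} hr hrd => ?_⟩
  by_contra hrp
  haveI := Fact.mk hr
  obtain ⟨z, hz⟩ := exists_prime_orderOf_dvd_card' r hrd
  rw [← Subgroup.orderOf_coe] at hz
  have hcomm : Commute w (z : X) := (Subgroup.mem_centralizer_singleton_iff.mp z.2).symm
  have ho : orderOf (w * (z : X)) = orderOf w * r := by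
    rw [hcomm.orderOf_mul_eq_mul_orderOf_of_coprime (by
      rw [hm, hz]; exact Nat.Coprime.pow_left m ((Nat.coprime_primes hp.out hr).mpr (Ne.symm hrp))), hz]
  exact hrp (hC _ (by rw [ho]; exact dvd_mul_of_dvd_left hpw _) r hr
    (by rw [ho]; exact dvd_mul_left _ _))

/-- The Sylow subgroups are commutative. -/
theorem sylow_comm (hC : ∀ g : X, p ∣ orderOf g → ∀ r : ℕ, r.Prime → r ∣ orderOf g → r = p)
    (hcen : ∀ w : X, w ≠ 1 → (∃ k, w ^ p ^ k = 1) → ¬ p ∣ (Subgroup.centralizer ({w} : Set X)).index)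
    (P : Sylow p X) : ∀ a ∈ (P : Subgroup X), ∀ b ∈ (P : Subgroup X), a * b = b * a := by
  classical
  by_contra hab
  have hmemk : ∀ (Q : Sylow p X) {w : X}, w ∈ (Q : Subgroup X) → ∃ k, w ^ p ^ k = 1 := fun Q w hw => by
    obtain ⟨k, hk⟩ := Q.2 ⟨w, hw⟩
    exact ⟨k, congrArg Subtype.val hk⟩
  have hsyl : ∀ w : X, w ≠ 1 → (∃ k, w ^ p ^ k = 1) →
      ∃ R : Sylow p X, (R : Subgroup X) = Subgroup.centralizer ({w} : Set X) := fun w h1 h2 =>
    ⟨(cent_isPGroup hC h1 h2).toSylow (hcen w h1 h2), IsPGroup.toSylow_coe _ _⟩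
  have hnab : ∀ Q : Sylow p X, ¬ ∀ a ∈ (Q : Subgroup X), ∀ b ∈ (Q : Subgroup X), a * b = b * a := by
    intro Q hQ
    apply hab
    intro a ha b hb
    obtain ⟨g, hg⟩ := MulAction.exists_smul_eq X Q P
    rw [← hg, Sylow.coe_subgroup_smul] at ha hb
    obtain ⟨a', ha', rfl⟩ := ha
    obtain ⟨b', hb', rfl⟩ := hb
    show MulAut.conj g a' * MulAut.conj g b' = MulAut.conj g b' * MulAut.conj g a'
    rw [← map_mul, ← map_mul, hQ a' ha' b' hb']
  -- the centre
  haveI hPnt : Nontrivial (P : Subgroup X) := by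
    by_contra h
    rw [not_nontrivial_iff_subsingleton] at h
    exact hab fun a ha b hb => congrArg Subtype.val
      (Subsingleton.elim (⟨a, ha⟩ * ⟨b, hb⟩ : (P : Subgroup X)) (⟨b, hb⟩ * ⟨a, ha⟩))
  haveI := P.2.center_nontrivial
  obtain ⟨y₀, hy₀⟩ := exists_ne (1 : Subgroup.center (P : Subgroup X))
  -- exponent `p`
  have hord : ∀ {g : X}, g ≠ 1 → g ^ p = 1 → orderOf g = p := fun h1 h2 => orderOf_eq_prime h2 h1
  have hexpP : ∀ x ∈ (P : Subgroup X), x ^ p = 1 := by
    have hA : ∀ x ∈ (P : Subgroup X), ∀ y ∈ (P : Subgroup X), (∃ z ∈ (P : Subgroup X), z * x ≠ x * z) →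
        (∀ z ∈ (P : Subgroup X), z * y = y * z) → y ^ p = 1 → y ≠ 1 → x ^ p = 1 := by
      intro x hx y hy ⟨z, hz, hzx⟩ hyc hyp hy1
      by_contra h2
      have hx1 : x ≠ 1 := fun h => hzx (by rw [h, mul_one, one_mul])
      have hxy1 : x * y ≠ 1 := fun h => hzx (by
        rw [eq_inv_of_mul_eq_one_left h]
        exact (Commute.inv_right (hyc z hz) :))
      have hpow : (x * y) ^ p = x ^ p := by
        rw [Commute.mul_pow (hyc x hx) p, hyp, mul_one]
      obtain ⟨R, hR⟩ := hsyl x hx1 (hmemk P hx)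
      obtain ⟨R', hR'⟩ := hsyl (x * y) hxy1 (hmemk P (mul_mem hx hy))
      obtain ⟨S, hS⟩ := hsyl (x ^ p) h2 (hmemk P (pow_mem hx p))
      have e1 : (R : Subgroup X) = S := (R.is_maximal' S.2 (by
        rw [hR, hS]
        intro v hv
        rw [Subgroup.mem_centralizer_singleton_iff] at hv ⊢
        exact ((show Commute v x from hv).pow_right p).eq)).symm
      have e2 : (R' : Subgroup X) = S := (R'.is_maximal' S.2 (by
        rw [hR', hS]
        intro v hv
        rw [Subgroup.mem_centralizer_singleton_iff] at hv ⊢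
        rw [← hpow]
        exact ((show Commute v (x * y) from hv).pow_right p).eq)).symm
      have hyC : Subgroup.centralizer ({y} : Set X) = (P : Subgroup X) :=
        P.is_maximal' (cent_isPGroup hC hy1 (hmemk P hy)) fun v hv =>
          Subgroup.mem_centralizer_singleton_iff.mpr (hyc v hv)
      have hle : (R : Subgroup X) ≤ Subgroup.centralizer ({y} : Set X) := fun v hv => by
        have h3 : v ∈ (R' : Subgroup X) := by rw [e2, ← e1]; exact hv
        rw [hR', Subgroup.mem_centralizer_singleton_iff] at h3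
        rw [hR, Subgroup.mem_centralizer_singleton_iff] at hv
        rw [Subgroup.mem_centralizer_singleton_iff]
        rw [← mul_assoc, hv, mul_assoc, mul_assoc] at h3
        exact mul_left_cancel h3
      rw [hyC] at hle
      have e3 : (P : Subgroup X) = R := R.is_maximal' P.2 hle
      rw [e3, hR, Subgroup.mem_centralizer_singleton_iff] at hz
      exact hzx hz
    obtain ⟨a, ha, b, hb, hne⟩ : ∃ a ∈ (P : Subgroup X), ∃ b ∈ (P : Subgroup X), a * b ≠ b * a := by
      push Not at hab; exact hab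
    haveI := hPnt
    obtain ⟨w, hw⟩ := exists_prime_orderOf_dvd_card' (G := Subgroup.center (P : Subgroup X)) p (by
      obtain ⟨k, hk⟩ := IsPGroup.iff_card.mp (P.2.to_subgroup (Subgroup.center (P : Subgroup X)))
      rcases k with _ | k
      · exact absurd hk (by rw [pow_zero]; exact (Finite.one_lt_card).ne')
      · rw [hk]; exact dvd_pow_self p (Nat.succ_ne_zero k))
    rw [← Subgroup.orderOf_coe, ← Subgroup.orderOf_coe] at hw
    have hwc : ∀ z ∈ (P : Subgroup X), z * ((w : (P : Subgroup X)) : X) = (w : (P : Subgroup X)) * z :=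
      fun z hz => congrArg Subtype.val (Subgroup.mem_center_iff.mp w.2 ⟨z, hz⟩)
    have hB : ∀ x ∈ (P : Subgroup X), (∃ z ∈ (P : Subgroup X), z * x ≠ x * z) → x ^ p = 1 := fun x hx h =>
      hA x hx _ (w : (P : Subgroup X)).2 h hwc (orderOf_dvd_iff_pow_eq_one.mp hw.dvd)
        (fun h1 => by rw [h1, orderOf_one] at hw; exact hp.out.ne_one hw.symm)
    intro x hx
    by_cases hxc : ∀ z ∈ (P : Subgroup X), z * x = x * z
    · have h1 : (b * x) ^ p = 1 := hB _ (mul_mem hb hx) ⟨a, ha, fun h => hne (by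
        have h2 : a * b * x = b * a * x := by
          rw [mul_assoc, h, mul_assoc, mul_assoc, hxc a ha]
        exact mul_right_cancel h2)⟩
      rw [Commute.mul_pow (hxc b hb) p, hB b hb ⟨a, ha, hne⟩, one_mul] at h1
      exact h1
    · push Not at hxc
      exact hB x hx hxc
  have hexp : ∀ g : X, (∃ k, g ^ p ^ k = 1) → g ^ p = 1 := by
    rintro g ⟨k, hk⟩
    obtain ⟨m, -, hm⟩ := (Nat.dvd_prime_pow hp.out).mp (orderOf_dvd_of_pow_eq_one hk)
    have hZ : IsPGroup p (Subgroup.zpowers g) := IsPGroup.iff_card.mpr ⟨m, (Nat.card_zpowers g).trans hm⟩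
    obtain ⟨Q, hQ⟩ := hZ.exists_le_sylow
    obtain ⟨h, hh⟩ := MulAction.exists_smul_eq X P Q
    have hg := hQ (Subgroup.mem_zpowers g)
    rw [← hh, Sylow.coe_subgroup_smul] at hg
    obtain ⟨g', hg', rfl⟩ := hg
    show (MulAut.conj h g') ^ p = 1
    rw [← map_pow, hexpP g' hg', map_one]
  have hp2 : p ≠ 2 := by
    rintro rfl
    refine hab fun a ha b hb => ?_
    have e : ∀ g ∈ (P : Subgroup X), g⁻¹ = g := fun g hg => inv_eq_of_mul_eq_one_right (by
      rw [← sq]; exact hexpP g hg)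
    rw [← e _ (mul_mem ha hb), mul_inv_rev, e a ha, e b hb]
  -- involutions
  have hinv : ∀ H : Subgroup X, IsPGroup p H → ∀ t : X, t * t = 1 → t ≠ 1 →
      ∀ ht : t ∈ Subgroup.normalizer (H : Set X), ∀ h : X, h ∈ H → t * h * t⁻¹ = h⁻¹ := by
    intro H hH t htt ht1 ht h hh
    let f := (H.normalizerMonoidHom ⟨t, ht⟩).toMonoidHom
    have hf : MonoidHom.FixedPointFree ⇑f := by
      intro g hg
      by_contra hg1
      have e : t * (g : X) * t⁻¹ = g := congrArg Subtype.val hg
      obtain ⟨k, hk⟩ := hH g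
      obtain ⟨j, hj⟩ := cent_isPGroup hC (w := (g : X)) (fun h => hg1 (Subtype.ext h))
        ⟨k, congrArg Subtype.val hk⟩ ⟨t, Subgroup.mem_centralizer_singleton_iff.mpr (mul_inv_eq_iff_eq_mul.mp e)⟩
      have h1 := pow_gcd_eq_one.mpr ⟨(congrArg Subtype.val hj : t ^ p ^ j = 1),
        (show t ^ 2 = 1 by rw [sq, htt])⟩
      rw [Nat.Coprime.gcd_eq_one (((Nat.coprime_primes hp.out Nat.prime_two).mpr hp2).pow_left j),
        pow_one] at h1
      exact ht1 h1
    have h2 : Function.Involutive f := fun g => Subtype.ext (by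
      show t * (t * (g : X) * t⁻¹) * t⁻¹ = g
      rw [show t⁻¹ = t from inv_eq_of_mul_eq_one_right htt]
      calc t * (t * (g : X) * t) * t = t * t * g * (t * t) := by group
        _ = g := by rw [htt, one_mul, mul_one])
    exact congrArg Subtype.val (congrFun (hf.coe_eq_inv_of_involutive h2) ⟨h, hh⟩)
  -- a maximal intersection
  haveI : Fintype (Sylow p X) := Fintype.ofFinite _
  obtain ⟨a, ha, b, hb, hne⟩ : ∃ a ∈ (P : Subgroup X), ∃ b ∈ (P : Subgroup X), a * b ≠ b * a := by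
    push Not at hab; exact hab
  have hb1 : b ≠ 1 := fun h => hne (by rw [h, mul_one, one_mul])
  obtain ⟨R₀, hR₀⟩ := hsyl b hb1 (hmemk P hb)
  have hR₀P : R₀ ≠ P := fun h => hne (by
    rw [← h, hR₀, Subgroup.mem_centralizer_singleton_iff] at ha
    exact ha)
  obtain ⟨Q, hQ, hQmax⟩ := (Finset.univ.filter fun Q : Sylow p X => Q ≠ P).exists_max_image
    (fun Q => Nat.card ↥((P : Subgroup X) ⊓ Q)) ⟨R₀, by simp [hR₀P]⟩
  replace hQ : Q ≠ P := by simpa using hQ
  set D : Subgroup X := (P : Subgroup X) ⊓ Q with hD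
  have hDp : IsPGroup p D := P.2.to_le inf_le_left
  have hD1 : D ≠ ⊥ := by
    intro h
    have h1 := hQmax R₀ (by simp [hR₀P])
    rw [h, Subgroup.card_bot] at h1
    have h2 : b ∈ (P : Subgroup X) ⊓ R₀ :=
      ⟨hb, hR₀ ▸ Subgroup.mem_centralizer_singleton_iff.mpr rfl⟩
    haveI : Nontrivial ↥((P : Subgroup X) ⊓ R₀) := ⟨⟨b, h2⟩, 1, fun h => hb1 (congrArg Subtype.val h)⟩
    exact absurd h1 (not_le.mpr Finite.one_lt_card)
  have hgrow : ∀ S : Sylow p X, D < (S : Subgroup X) →
      ∃ g ∈ (S : Subgroup X), g ∈ Subgroup.normalizer (D : Set X) ∧ g ∉ D := by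
    intro S hS
    haveI := S.2.isNilpotent
    have hlt : D.subgroupOf S < ⊤ := by
      rw [lt_top_iff_ne_top, Ne, Subgroup.subgroupOf_eq_top]
      exact hS.not_ge
    obtain ⟨g, hg1, hg2⟩ := SetLike.exists_of_lt (Group.normalizerCondition_of_isNilpotent _ hlt)
    refine ⟨g, g.2, ?_, hg2⟩
    rw [Subgroup.mem_normalizer_iff] at hg1 ⊢
    intro h
    constructor
    · intro hh
      exact (hg1 ⟨h, hS.le hh⟩).mp hh
    · intro hh
      have h' : h ∈ (S : Subgroup X) := by
        have := (S : Subgroup X).mul_mem ((S : Subgroup X).mul_mem ((S : Subgroup X).inv_mem g.2) (hS.le hh)) g.2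
        rwa [show ((g : X))⁻¹ * ((g : X) * h * (g : X)⁻¹) * g = h by group] at this
      exact (hg1 ⟨h, h'⟩).mpr hh
  have hlt : ∀ {S T : Sylow p X}, S ≠ T → D ≤ S → D ≤ T → D < (S : Subgroup X) := fun hST h1 h2 =>
    h1.lt_of_ne fun h => hST (Sylow.ext ((Sylow.is_maximal' _ (Sylow.isPGroup' _) (h ▸ h2)).symm))
  obtain ⟨g₁, hg₁, hg₁N, hg₁D⟩ := hgrow P (hlt hQ.symm inf_le_left inf_le_right)
  obtain ⟨g₂, hg₂, hg₂N, hg₂D⟩ := hgrow Q (hlt hQ inf_le_right inf_le_left)
  set M := Subgroup.normalizer (D : Set X) with hM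
  obtain ⟨v₀, hv₀, hv₀1⟩ : ∃ v ∈ D, v ≠ 1 := D.bot_or_exists_ne_one.resolve_left hD1
  have hnoinv : ∀ t ∈ M, t * t = 1 → t = 1 := by
    intro t ht htt
    by_contra ht1
    obtain ⟨k, hk⟩ := hDp ⟨v₀, hv₀⟩
    obtain ⟨R, hR⟩ := hsyl v₀ hv₀1 ⟨k, congrArg Subtype.val hk⟩
    have hv := hinv D hDp t htt ht1 ht v₀ hv₀
    have htR : t ∈ Subgroup.normalizer ((R : Subgroup X) : Set X) := by
      rw [Subgroup.mem_normalizer_iff]
      intro h
      rw [hR, Subgroup.mem_centralizer_singleton_iff, Subgroup.mem_centralizer_singleton_iff]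
      rw [← show Commute (t * h * t⁻¹) (t * v₀ * t⁻¹) ↔ (t * h * t⁻¹) * v₀ = v₀ * (t * h * t⁻¹) from by
        rw [hv, Commute.inv_right_iff]; rfl]
      exact ⟨fun h' => (show Commute h v₀ from h').conj t, fun h' => by
        have := (h'.conj t⁻¹).eq
        simpa [mul_assoc] using this⟩
    refine hnab R fun c hc d hd => ?_
    have e1 := hinv R R.2 t htt ht1 htR (c * d) (mul_mem hc hd)
    rw [show t * (c * d) * t⁻¹ = t * c * t⁻¹ * (t * d * t⁻¹) by group, hinv R R.2 t htt ht1 htR c hc,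
      hinv R R.2 t htt ht1 htR d hd, ← mul_inv_rev, inv_inj] at e1
    exact e1.symm
  -- the centre of `D`
  obtain ⟨V, hV⟩ : ∃ V : Subgroup X, V = D ⊓ Subgroup.centralizer (D : Set X) := ⟨_, rfl⟩
  have hVD : V ≤ D := hV ▸ inf_le_left
  haveI hVnt : Nontrivial V := by
    haveI : Nontrivial D := ⟨⟨v₀, hv₀⟩, 1, fun h => hv₀1 (congrArg Subtype.val h)⟩
    haveI := hDp.center_nontrivial
    obtain ⟨c, hc⟩ := exists_ne (1 : Subgroup.center D)
    refine ⟨⟨((c : D) : X), hV ▸ ⟨(c : D).2, fun d hd => ?_⟩⟩, 1, fun h => hc ?_⟩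
    · exact congrArg Subtype.val (Subgroup.mem_center_iff.mp c.2 ⟨d, hd⟩)
    · exact Subtype.ext (Subtype.ext (congrArg Subtype.val h :))
  haveI : IsMulCommutative V := ⟨⟨fun x y => Subtype.ext (by
    have hy : (y : X) ∈ D ⊓ Subgroup.centralizer (D : Set X) := hV ▸ y.2
    exact hy.2 x (hVD x.2))⟩⟩
  letI : CommGroup V := { (inferInstance : Group V) with mul_comm := mul_comm' }
  have hMV : M ≤ Subgroup.normalizer (V : Set X) := by
    have hconj : ∀ m ∈ M, ∀ v ∈ V, m * v * m⁻¹ ∈ V := by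
      intro m hm v hv
      rw [hV] at hv ⊢
      refine ⟨(Subgroup.mem_normalizer_iff.mp hm v).mp hv.1, fun d hd => ?_⟩
      have h1 : m⁻¹ * d * m ∈ D := by
        have := (Subgroup.mem_normalizer_iff.mp (inv_mem hm) d).mp hd
        rwa [inv_inv] at this
      have h2 := hv.2 _ h1
      calc d * (m * v * m⁻¹) = m * (m⁻¹ * d * m * v) * m⁻¹ := by group
        _ = m * (v * (m⁻¹ * d * m)) * m⁻¹ := by rw [h2]
        _ = m * v * m⁻¹ * d := by group
    intro m hm
    rw [Subgroup.mem_normalizer_iff]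
    refine fun v => ⟨hconj m hm v, fun h => ?_⟩
    have := hconj m⁻¹ (inv_mem hm) _ h
    rwa [show m⁻¹ * (m * v * m⁻¹) * m⁻¹⁻¹ = v by group] at this
  let φ : M →* MulAut V := V.normalizerMonoidHom.comp (Subgroup.inclusion hMV)
  have hφv : ∀ (m : M) (v : V), ((φ m v : V) : X) = m * v * (m : X)⁻¹ := fun m v => rfl
  have hfix : ∀ (r : ℕ), r.Prime → r ≠ p → ∀ (s : M), (∃ k, s ^ r ^ k = 1) → s ≠ 1 →
      ∀ v : V, φ s v = v → v = 1 := by
    intro r hr hrp s ⟨k, hk⟩ hs v hv
    by_contra hv1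
    have e : (s : X) * v * (s : X)⁻¹ = v := congrArg Subtype.val hv
    obtain ⟨k', hk'⟩ := hDp ⟨v, hVD v.2⟩
    obtain ⟨j, hj⟩ := cent_isPGroup hC (w := (v : X)) (fun h => hv1 (Subtype.ext h))
      ⟨k', congrArg Subtype.val hk'⟩ ⟨s, Subgroup.mem_centralizer_singleton_iff.mpr (mul_inv_eq_iff_eq_mul.mp e)⟩
    have h1 := pow_gcd_eq_one.mpr ⟨(congrArg Subtype.val hj : (s : X) ^ p ^ j = 1),
      (congrArg Subtype.val hk : (s : X) ^ r ^ k = 1)⟩
    rw [Nat.Coprime.gcd_eq_one (Nat.Coprime.pow _ _ ((Nat.coprime_primes hp.out hr).mpr hrp.symm)),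
      pow_one] at h1
    exact hs (Subtype.ext h1)
  have hcyc : ∀ r : ℕ, r.Prime → r ≠ p → ∀ R : Subgroup M, IsPGroup r R → IsCyclic R := by
    intro r hr hrp R hR
    haveI := Fact.mk hr
    rcases subsingleton_or_nontrivial R with hs | hs
    · exact isCyclic_of_subsingleton
    obtain ⟨K, i1, i2, m, ρ, hm, hρ⟩ := Cfsg.Agent.Perm.Fpf.hasFpf_of_action (φ.comp R.subtype)
      (fun g hg v hv => hfix r hr hrp g (by
        obtain ⟨k, hk⟩ := hR g
        exact ⟨k, congrArg Subtype.val hk⟩) (fun h => hg (Subtype.ext h)) v hv)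
    haveI : Nonempty (Fin m) := ⟨⟨0, hm⟩⟩
    rcases hρ.isCyclic_or_quaternion (⊤ : Subgroup R) (hR.to_subgroup _) with h | ⟨h2, -⟩
    · exact isCyclic_of_surjective (Subgroup.topEquiv (G := R)).toMonoidHom (MulEquiv.surjective _)
    · subst h2
      exfalso
      obtain ⟨k, hk⟩ := IsPGroup.iff_card.mp hR
      have h1 : 2 ∣ Nat.card R := by
        rcases k with _ | k
        · exact absurd hk (by rw [pow_zero]; exact (Finite.one_lt_card).ne')
        · rw [hk]; exact dvd_pow_self 2 (Nat.succ_ne_zero k)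
      obtain ⟨t, ht⟩ := exists_prime_orderOf_dvd_card' 2 h1
      have h2' : ((t : M) : X) * ((t : M) : X) = 1 := by
        rw [← sq, ← ht, ← Subgroup.orderOf_coe t, ← Subgroup.orderOf_coe (t : M), pow_orderOf_eq_one]
      have h3 := hnoinv _ (t : M).2 h2'
      rw [← Subgroup.orderOf_coe, ← Subgroup.orderOf_coe, h3, orderOf_one] at ht
      omega
  have hnorm : ∀ r : ℕ, r.Prime → r ≠ p → ∀ R : Subgroup M, IsPGroup r R → R ≠ ⊥ →
      ∀ x ∈ Subgroup.normalizer (R : Set M), (∃ k, x ^ p ^ k = 1) → x = 1 := by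
    intro r hr hrp R hR hR1 x hx ⟨k, hk⟩
    by_contra hx1
    haveI := Fact.mk hr
    haveI := hcyc r hr hrp R hR
    haveI := (Subgroup.nontrivial_iff_ne_bot R).mpr hR1
    obtain ⟨s, hs⟩ := exists_prime_orderOf_dvd_card' (G := R) r (by
      obtain ⟨j, hj⟩ := IsPGroup.iff_card.mp hR
      rcases j with _ | j
      · exact absurd hj (by rw [pow_zero]; exact (Finite.one_lt_card).ne')
      · rw [hj]; exact dvd_pow_self r (Nat.succ_ne_zero j))
    obtain ⟨c, hc⟩ : ∃ c : ℕ, x * (s : M) * x⁻¹ = (s : M) ^ c := by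
      let y : R := ⟨x * (s : M) * x⁻¹, (Subgroup.mem_normalizer_iff.mp hx s).mp s.2⟩
      letI : CommGroup R := IsCyclic.commGroup
      have key : ∀ u : R, orderOf u = r → Subgroup.zpowers u = (powMonoidHom r : R →* R).ker := fun u hu => by
        refine Subgroup.eq_of_le_of_card_ge (Subgroup.zpowers_le.2 ?_) ?_
        · rw [MonoidHom.mem_ker, powMonoidHom_apply, ← hu, pow_orderOf_eq_one]
        · rw [Nat.card_zpowers, hu, IsCyclic.card_powMonoidHom_ker]
          exact Nat.gcd_le_right _ hr.pos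
      have hy : orderOf y = r := by
        rw [← Subgroup.orderOf_coe, show (y : M) = MulAut.conj x (s : M) from rfl,
          MulEquiv.orderOf_eq, Subgroup.orderOf_coe, hs]
      have h1 : y ∈ Subgroup.zpowers s := (key s hs).symm ▸ (key y hy ▸ Subgroup.mem_zpowers y)
      rw [← mem_powers_iff_mem_zpowers] at h1
      obtain ⟨c, hc⟩ := h1
      exact ⟨c, (congrArg Subtype.val hc).symm⟩
    have hsM : (s : M) ^ r = 1 := by rw [← hs, ← Subgroup.orderOf_coe s, pow_orderOf_eq_one]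
    have hs1 : (s : M) ≠ 1 := fun h => by
      rw [← Subgroup.orderOf_coe, h, orderOf_one] at hs
      exact hr.ne_one hs.symm
    have hpowc : ∀ j, x ^ j * (s : M) = (s : M) ^ c ^ j * x ^ j := by
      intro j
      induction j with
      | zero => simp
      | succ j ih =>
        have hl : ∀ l : ℕ, x * (s : M) ^ l = (s : M) ^ (c * l) * x := fun l => by
          rw [pow_mul, ← hc, conj_pow]
          group
        rw [pow_succ', mul_assoc, ih, ← mul_assoc, hl, pow_succ' c j, mul_assoc]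
    have hxp : (x : X) ^ p = 1 := hexp _ ⟨k, congrArg Subtype.val hk⟩
    have hxo : orderOf (x : X) = p := hord (fun h => hx1 (Subtype.ext h)) hxp
    have hv : ∀ v : V, v ^ r = 1 := by
      refine pow_eq_one_of_norm hr hp.out.pos (φ s) (φ x) (hfix r hr hrp s ⟨1, by rw [pow_one, hsM]⟩ hs1)
        (by rw [← map_pow, hsM, map_one]) (fun j => c ^ j) (pow_zero c) (fun j => ?_) (fun j hj0 hjp hdvd => ?_)
        (fun v => ?_)
      · rw [← map_pow, ← map_pow, ← map_mul, ← map_mul, hpowc]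
      · obtain ⟨i, hi⟩ := hdvd
        have h1 : (s : M) ^ c ^ j = s := by
          have h2 : (s : M) ^ (r - 1 + c ^ j) = 1 := by rw [hi, pow_mul, hsM, one_pow]
          have h3 : (s : M) ^ (r - 1) * s = 1 := by rw [← pow_succ, Nat.sub_add_cancel hr.one_le, hsM]
          rw [pow_add] at h2
          exact mul_left_cancel (h2.trans h3.symm)
        have h2 := hpowc j
        rw [h1] at h2
        have hxj : (x : X) ^ j ≠ 1 := pow_ne_one_of_lt_orderOf hj0.ne' (hxo ▸ hjp)
        obtain ⟨i', hi'⟩ := cent_isPGroup hC hxj ⟨1, by rw [pow_one, ← pow_mul, mul_comm, pow_mul, hxp, one_pow]⟩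
          ⟨((s : M) : X), Subgroup.mem_centralizer_singleton_iff.mpr (congrArg Subtype.val h2).symm⟩
        have h3 := pow_gcd_eq_one.mpr ⟨(congrArg Subtype.val hi' : ((s : M) : X) ^ p ^ i' = 1),
          (congrArg Subtype.val hsM : ((s : M) : X) ^ r = 1)⟩
        rw [Nat.Coprime.gcd_eq_one (((Nat.coprime_primes hp.out hr).mpr hrp.symm).pow_left i'), pow_one] at h3
        exact hs1 (Subtype.ext h3)
      · have hprod : ∀ n : ℕ, (((∏ i ∈ Finset.range n, (φ x ^ i) v : V)) : X) * (x : X) ^ n =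
            ((v : X) * x) ^ n := by
          intro n
          induction n with
          | zero => simp
          | succ n ih =>
            rw [Finset.prod_range_succ, Subgroup.coe_mul, ← map_pow, hφv, Subgroup.coe_pow, pow_succ,
              pow_succ ((v : X) * x), ← ih]
            group
        refine Subtype.ext ?_
        have h1 := hprod p
        rw [hxp, mul_one] at h1
        rw [h1, OneMemClass.coe_one]
        refine hexp _ ?_
        have hZ : IsPGroup p (Subgroup.zpowers (x : X)) :=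
          IsPGroup.iff_card.mpr ⟨1, by rw [Nat.card_zpowers, hxo, pow_one]⟩
        obtain ⟨e, he⟩ := (hDp.to_sup_of_normal_left' hZ (Subgroup.zpowers_le.mpr x.2))
          ⟨(v : X) * x, mul_mem (Subgroup.mem_sup_left (hVD v.2))
            (Subgroup.mem_sup_right (Subgroup.mem_zpowers _))⟩
        exact ⟨e, congrArg Subtype.val he⟩
    obtain ⟨v, hv1⟩ := exists_ne (1 : V)
    obtain ⟨e, he⟩ := hDp ⟨v, hVD v.2⟩
    have h1 := pow_gcd_eq_one.mpr ⟨(congrArg Subtype.val he : (v : X) ^ p ^ e = 1),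
      (congrArg Subtype.val (hv v) : (v : X) ^ r = 1)⟩
    rw [Nat.Coprime.gcd_eq_one (((Nat.coprime_primes hp.out hr).mpr hrp.symm).pow_left e), pow_one] at h1
    exact hv1 (Subtype.ext h1)
  obtain ⟨K, -, hKp, hK⟩ := subsingleton_sylow (Nat.card M) (Y := M) rfl hcyc hnorm
  obtain ⟨S, hS⟩ := (hKp.map M.subtype).exists_le_sylow
  have hin : ∀ g ∈ M, (∃ k, g ^ p ^ k = 1) → g ∈ (S : Subgroup X) := fun g hg ⟨k, hk⟩ =>
    hS ⟨⟨g, hg⟩, hK _ ⟨k, Subtype.ext hk⟩, rfl⟩
  have hDS : D ≤ (S : Subgroup X) := fun d hd => hin d (Subgroup.le_normalizer hd) (hmemk P hd.1)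
  have hbig : ∀ T : Sylow p X, T ≠ P → (∃ g, g ∈ (P : Subgroup X) ⊓ T ∧ g ∉ D) → D ≤ (T : Subgroup X) → False := by
    rintro T hT ⟨g, hg, hgD⟩ hDT
    have h1 : D < (P : Subgroup X) ⊓ T :=
      lt_of_le_of_ne (le_inf inf_le_left hDT) fun h => hgD (h ▸ hg)
    have h2 := hQmax T (by simp [hT])
    exact absurd h2 (not_le.mpr (Set.ncard_lt_ncard h1))
  have hSP : S = P := by
    by_contra h
    exact hbig S h ⟨g₁, ⟨hg₁, hin g₁ hg₁N (hmemk P hg₁)⟩, hg₁D⟩ hDS
  exact hg₂D ⟨hSP ▸ hin g₂ hg₂N (hmemk Q hg₂), hg₂⟩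

end Cfsg.Agent.Lie.ClassSizePSL
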