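import Mathlib
import Cfsg.Agent.Lib.Lie.PSLClassSizes.SylowAbelian

/-!
Groups whose class sizes are `1`, a number `A` prime to `p`, and numbers `q * m` with `m < A`:
the structure of the quotient by the centre.
-/

set_option autoImplicit false
set_option linter.unusedSectionVars false
set_option linter.style.haveILetI false
set_option maxHeartbeats 1000000

namespace Cfsg.Agent.Lie.ClassSizePSL

universe u

variable {G : Type u} [Group G]

/-- The class size of `g`. -/
noncomputable def cidx (g : G) : ℕ := (Subgroup.centralizer ({g} : Set G)).index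

/-- The hypotheses on the class sizes. -/
structure SizeData (G : Type u) [Group G] (p q A : ℕ) (M : Set ℕ) : Prop where
  qpow : ∃ f, 0 < f ∧ q = p ^ f
  A_lt : 1 < A
  A_p : ¬ p ∣ A
  mem_M : ∀ m ∈ M, 0 < m ∧ m < A ∧ ¬ p ∣ m
  classes : ∀ g : G, cidx g = 1 ∨ cidx g = A ∨ ∃ m ∈ M, cidx g = q * m
  exA : ∃ g : G, cidx g = A
  exr : ∀ r : ℕ, r.Prime → r ≠ p → ∃ g : G, ∃ m ∈ M, cidx g = q * m ∧ ¬ r ∣ q * m
  ratio : ∀ m ∈ M, ∀ m' ∈ M, m ∣ m' → m' = m ∨ (m' = 2 * m ∧ p ≠ 2)

variable [Finite G] {p q A : ℕ} {M : Set ℕ} [hp : Fact p.Prime]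

theorem cidx_ne_zero (g : G) : cidx g ≠ 0 := Subgroup.index_ne_zero_of_finite

theorem cidx_eq_one_iff {g : G} : cidx g = 1 ↔ g ∈ Subgroup.center G := by
  rw [cidx, Subgroup.index_eq_one, Subgroup.mem_center_iff, Subgroup.eq_top_iff']
  simp only [Subgroup.mem_centralizer_singleton_iff]

theorem cidx_dvd_of_le {a x : G} (h : Subgroup.centralizer ({x} : Set G) ≤ Subgroup.centralizer {a}) :
    cidx a ∣ cidx x := Subgroup.index_dvd_of_le h

theorem cent_eq_of_le {a x : G} (h : Subgroup.centralizer ({x} : Set G) ≤ Subgroup.centralizer {a})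
    (he : cidx x = cidx a) : Subgroup.centralizer ({x} : Set G) = Subgroup.centralizer {a} := by
  refine Subgroup.eq_of_le_of_card_ge h ?_
  have h1 := Subgroup.card_mul_index (Subgroup.centralizer ({x} : Set G))
  have h2 := Subgroup.card_mul_index (Subgroup.centralizer ({a} : Set G))
  rw [show (Subgroup.centralizer ({x} : Set G)).index = cidx a from he] at h1
  exact (Nat.eq_of_mul_eq_mul_right (Nat.pos_of_ne_zero (cidx_ne_zero a)) (h2.trans h1.symm)).le

theorem cidx_conj (g x : G) : cidx (g * x * g⁻¹) = cidx x := by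
  rw [cidx, cidx, ← Subgroup.index_map_equiv (Subgroup.centralizer ({x} : Set G)) (MulAut.conj g)]
  congr 1
  ext h
  show _ ↔ h ∈ (Subgroup.centralizer ({x} : Set G)).map (MulAut.conj g).toMonoidHom
  rw [Subgroup.mem_map_equiv, Subgroup.mem_centralizer_singleton_iff,
    Subgroup.mem_centralizer_singleton_iff, MulAut.conj_symm_apply]
  constructor <;> intro e
  · calc g⁻¹ * h * g * x = g⁻¹ * (h * (g * x * g⁻¹)) * g := by group
      _ = g⁻¹ * ((g * x * g⁻¹) * h) * g := by rw [e]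
      _ = x * (g⁻¹ * h * g) := by group
  · calc h * (g * x * g⁻¹) = g * (g⁻¹ * h * g * x) * g⁻¹ := by group
      _ = g * (x * (g⁻¹ * h * g)) * g⁻¹ := by rw [e]
      _ = (g * x * g⁻¹) * h := by group

/-- The centraliser of a product of commuting elements of coprime orders. -/
theorem cent_mul_le {a b : G} (hc : Commute a b) {k m : ℕ} (ha : a ^ p ^ k = 1) (hb : b ^ m = 1)
    (hm : ¬ p ∣ m) :
    Subgroup.centralizer ({a * b} : Set G) ≤ Subgroup.centralizer {a} ∧
      Subgroup.centralizer ({a * b} : Set G) ≤ Subgroup.centralizer {b} := by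
  have hcop : Nat.Coprime (p ^ k) m := (hp.out.coprime_iff_not_dvd.mpr hm).pow_left k
  obtain ⟨e, he1, he2⟩ := Nat.chineseRemainder hcop 1 0
  have hae : (a * b) ^ e = a := by
    rw [hc.mul_pow, pow_eq_pow_mod e ha, pow_eq_pow_mod e hb, he1, he2, ← pow_eq_pow_mod 1 ha,
      ← pow_eq_pow_mod 0 hb, pow_one, pow_zero, mul_one]
  constructor <;> intro h hh <;> rw [Subgroup.mem_centralizer_singleton_iff] at hh ⊢
  · rw [← hae]
    exact ((show Commute h (a * b) from hh).pow_right e).eq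
  · have h1 : Commute h a := by
      rw [← hae]
      exact (show Commute h (a * b) from hh).pow_right e
    have h2 : Commute h (a⁻¹ * (a * b)) := h1.inv_right.mul_right hh
    rwa [inv_mul_cancel_left] at h2

/-- The `p`-part and the prime-to-`p` part. -/
theorem exists_parts' (y : G) : ∃ a b : G, a * b = y ∧ Commute a b ∧ (∃ k, a ^ p ^ k = 1) ∧
    (∃ m, ¬ p ∣ m ∧ b ^ m = 1) ∧ a ∈ Subgroup.zpowers y ∧ b ∈ Subgroup.zpowers y := by
  obtain ⟨k, m, hm, ho⟩ := Nat.exists_eq_pow_mul_and_not_dvd (orderOf_pos y).ne' p hp.out.ne_one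
  have hcop : Nat.Coprime (p ^ k) m := (hp.out.coprime_iff_not_dvd.mpr hm).pow_left k
  obtain ⟨e, he1, he2⟩ := Nat.chineseRemainder hcop 1 0
  obtain ⟨e', he1', he2'⟩ := Nat.chineseRemainder hcop 0 1
  refine ⟨y ^ e, y ^ e', ?_, Commute.pow_pow_self y e e', ⟨k, ?_⟩, ⟨m, hm, ?_⟩,
    pow_mem (Subgroup.mem_zpowers y) e, pow_mem (Subgroup.mem_zpowers y) e'⟩
  · rw [← pow_add]
    conv_rhs => rw [← pow_one y]
    rw [pow_eq_pow_iff_modEq, ho]
    exact (Nat.modEq_and_modEq_iff_modEq_mul hcop).mp ⟨Nat.ModEq.add he1 he1', Nat.ModEq.add he2 he2'⟩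
  · rw [← pow_mul]
    apply orderOf_dvd_iff_pow_eq_one.mp
    rw [ho, mul_comm e]
    exact mul_dvd_mul_left _ (Nat.modEq_zero_iff_dvd.mp he2)
  · rw [← pow_mul]
    apply orderOf_dvd_iff_pow_eq_one.mp
    rw [ho]
    exact mul_dvd_mul_right (Nat.modEq_zero_iff_dvd.mp he1') _

theorem cent_le_of_mem_zpowers {a y : G} (h : a ∈ Subgroup.zpowers y) :
    Subgroup.centralizer ({y} : Set G) ≤ Subgroup.centralizer {a} := by
  obtain ⟨n, rfl⟩ := Subgroup.mem_zpowers_iff.mp h
  intro g hg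
  rw [Subgroup.mem_centralizer_singleton_iff] at hg ⊢
  exact ((show Commute g y from hg).zpow_right n).eq

/-- A centraliser of index prime to `p` contains a Sylow subgroup. -/
theorem exists_sylow_le {r : ℕ} [Fact r.Prime] {H : Subgroup G} (h : ¬ r ∣ H.index) :
    ∃ P : Sylow r G, (P : Subgroup G) ≤ H := by
  obtain ⟨P₀⟩ := (inferInstance : Nonempty (Sylow r H))
  have hi : ¬ r ∣ ((P₀ : Subgroup H).map H.subtype).index := by
    rw [Subgroup.index_map_subtype, (Fact.out : r.Prime).dvd_mul, not_or]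
    exact ⟨P₀.not_dvd_index, h⟩
  refine ⟨(P₀.2.map H.subtype).toSylow hi, ?_⟩
  rw [IsPGroup.toSylow_coe]
  exact Subgroup.map_subtype_le _

theorem exists_sylow_mem {r : ℕ} [Fact r.Prime] {g : G} (h : ∃ k, g ^ r ^ k = 1) :
    ∃ P : Sylow r G, g ∈ (P : Subgroup G) := by
  obtain ⟨k, hk⟩ := h
  obtain ⟨m, -, hm⟩ := (Nat.dvd_prime_pow Fact.out).mp (orderOf_dvd_of_pow_eq_one hk)
  obtain ⟨P, hP⟩ := (IsPGroup.iff_card.mpr ⟨m, (Nat.card_zpowers g).trans hm⟩ :
    IsPGroup r (Subgroup.zpowers g)).exists_le_sylow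
  exact ⟨P, hP (Subgroup.mem_zpowers g)⟩

/-- If `g` commutes with a conjugate of `w`, a conjugate of `g` commutes with `w`. -/
theorem exists_conj_comm {r : ℕ} [Fact r.Prime] {g w : G} (hg : ¬ r ∣ cidx g) (hw : ∃ k, w ^ r ^ k = 1) :
    ∃ c : G, Commute (c * g * c⁻¹) w := by
  obtain ⟨P, hP⟩ := exists_sylow_le hg
  obtain ⟨R, hR⟩ := exists_sylow_mem (r := r) hw
  obtain ⟨c, hc⟩ := MulAction.exists_smul_eq G P R
  rw [← hc, Sylow.coe_subgroup_smul] at hR
  obtain ⟨w', hw', rfl⟩ := hR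
  refine ⟨c, ?_⟩
  have := (show Commute w' g from Subgroup.mem_centralizer_singleton_iff.mp (hP hw')).symm
  exact this.conj c

namespace SizeData

variable (h : SizeData G p q A M)
include h

theorem q_pos : 0 < q := by
  obtain ⟨f, -, hf⟩ := h.qpow
  rw [hf]; exact pow_pos hp.out.pos f

theorem p_dvd_q : p ∣ q := by
  obtain ⟨f, hf0, hf⟩ := h.qpow
  rw [hf]; exact dvd_pow_self p hf0.ne'

theorem coprime_q : Nat.Coprime A q := by
  obtain ⟨f, -, hf⟩ := h.qpow
  rw [hf]; exact ((hp.out.coprime_iff_not_dvd.mpr h.A_p).pow_left f).symm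

theorem not_both {g : G} (hA : A ∣ cidx g) (hpg : p ∣ cidx g) : False := by
  rcases h.classes g with e | e | ⟨m, hm, e⟩ <;> rw [e] at hA hpg
  · exact hp.out.not_dvd_one hpg
  · exact h.A_p hpg
  · obtain ⟨h0, hlt, -⟩ := h.mem_M m hm
    exact absurd (Nat.le_of_dvd h0 (h.coprime_q.dvd_of_dvd_mul_left hA)) (not_le.mpr hlt)

theorem eq_A_of_not_dvd {g : G} (hpg : ¬ p ∣ cidx g) (h1 : cidx g ≠ 1) : cidx g = A := by
  rcases h.classes g with e | e | ⟨m, hm, e⟩
  · exact absurd e h1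
  · exact e
  · exact absurd (e ▸ dvd_mul_of_dvd_left h.p_dvd_q m) hpg

theorem dvd_A_cases {g : G} (hg : cidx g ∣ A) : cidx g = 1 ∨ cidx g = A := by
  by_cases h1 : cidx g = 1
  · exact Or.inl h1
  · exact Or.inr (h.eq_A_of_not_dvd (fun hd => h.A_p (hd.trans hg)) h1)

theorem exists_q_size : ∃ g : G, p ∣ cidx g := by
  obtain ⟨r, hr, hrp⟩ : ∃ r : ℕ, r.Prime ∧ r ≠ p := by
    by_cases h2 : p = 2
    · exact ⟨3, Nat.prime_three, by omega⟩
    · exact ⟨2, Nat.prime_two, Ne.symm h2⟩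
  obtain ⟨g, m, -, hg, -⟩ := h.exr r hr hrp
  exact ⟨g, hg ▸ dvd_mul_of_dvd_left h.p_dvd_q m⟩

theorem exists_noncentral (P : Sylow p G) : ∃ w ∈ (P : Subgroup G), cidx w ≠ 1 := by
  by_contra hcon
  push Not at hcon
  obtain ⟨g, hg⟩ := h.exists_q_size
  refine P.not_dvd_index (hg.trans (Subgroup.index_dvd_of_le fun w hw => ?_))
  exact Subgroup.mem_centralizer_singleton_iff.mpr
    ((Subgroup.mem_center_iff.mp (cidx_eq_one_iff.mp (hcon w hw)) g).symm)

/-- A commuting pair of coprime orders, one member having class size `A`. -/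
theorem pair {a b : G} (hc : Commute a b) {k m : ℕ} (ha : a ^ p ^ k = 1) (hb : b ^ m = 1)
    (hm : ¬ p ∣ m) :
    (cidx a = A → cidx b ≠ 1 → cidx b = A ∧
      Subgroup.centralizer ({a} : Set G) = Subgroup.centralizer {b}) ∧
    (cidx b = A → cidx a ≠ 1 → cidx a = A ∧
      Subgroup.centralizer ({a} : Set G) = Subgroup.centralizer {b}) := by
  obtain ⟨la, lb⟩ := cent_mul_le hc ha hb hm
  have da := cidx_dvd_of_le la
  have db := cidx_dvd_of_le lb
  constructor
  · intro hA hb1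
    have hnp : ¬ p ∣ cidx (a * b) := h.not_both (hA ▸ da)
    have hbA := h.eq_A_of_not_dvd (fun hd => hnp (hd.trans db)) hb1
    have habA := h.eq_A_of_not_dvd hnp fun h1 => hb1 (Nat.eq_one_of_dvd_one (h1 ▸ db))
    exact ⟨hbA, (cent_eq_of_le la (habA.trans hA.symm)).symm.trans (cent_eq_of_le lb (habA.trans hbA.symm))⟩
  · intro hA ha1
    have hnp : ¬ p ∣ cidx (a * b) := h.not_both (hA ▸ db)
    have haA := h.eq_A_of_not_dvd (fun hd => hnp (hd.trans da)) ha1
    have habA := h.eq_A_of_not_dvd hnp fun h1 => ha1 (Nat.eq_one_of_dvd_one (h1 ▸ da))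
    exact ⟨haA, (cent_eq_of_le la (habA.trans haA.symm)).symm.trans (cent_eq_of_le lb (habA.trans hA.symm))⟩

/-- No element of order prime to `p` has class size `A`. -/
theorem no_prime_A {v : G} (hv : ∃ m, ¬ p ∣ m ∧ v ^ m = 1) : cidx v ≠ A := by
  classical
  intro hvA
  have hne : ∃ n, ∃ v : G, orderOf v = n ∧ (¬ p ∣ n) ∧ cidx v = A := by
    obtain ⟨m, hm, hvm⟩ := hv
    exact ⟨_, v, rfl, fun hd => hm (hd.trans (orderOf_dvd_of_pow_eq_one hvm)), hvA⟩
  obtain ⟨n, ⟨v, hvo, hpn, hvA⟩, hmin⟩ := Nat.findX hne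
  have hn1 : n ≠ 1 := by
    intro h1
    rw [h1, orderOf_eq_one_iff] at hvo
    rw [hvo, cidx_eq_one_iff.mpr (one_mem _)] at hvA
    exact absurd hvA h.A_lt.ne
  obtain ⟨r, hr, hrn⟩ := Nat.exists_prime_and_dvd hn1
  haveI := Fact.mk hr
  have hrp : r ≠ p := fun e => hpn (e ▸ hrn)
  -- `v` is an `r`-element
  obtain ⟨a, b, hab, hcab, ⟨k, hak⟩, ⟨m, hm, hbm⟩, haz, hbz⟩ := exists_parts' (p := r) v
  have hsmall : ∀ c ∈ Subgroup.zpowers v, cidx c = A → orderOf c = n := by
    intro c hc hcA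
    have hd : orderOf c ∣ n := by
      obtain ⟨i, rfl⟩ := Subgroup.mem_zpowers_iff.mp hc
      rw [← hvo]
      exact orderOf_dvd_of_pow_eq_one (by rw [← zpow_natCast, ← zpow_mul, mul_comm, zpow_mul,
        zpow_natCast, pow_orderOf_eq_one, one_zpow])
    rcases lt_or_eq_of_le (Nat.le_of_dvd (hvo ▸ orderOf_pos v) hd) with h1 | h1
    · exact absurd ⟨c, rfl, fun h2 => hpn (h2.trans hd), hcA⟩ (hmin _ h1)
    · exact h1
  have haA : cidx a = A := by
    rcases h.dvd_A_cases (hvA ▸ cidx_dvd_of_le (cent_le_of_mem_zpowers haz)) with ha1 | ha1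
    swap
    · exact ha1
    rcases h.dvd_A_cases (hvA ▸ cidx_dvd_of_le (cent_le_of_mem_zpowers hbz)) with hb1 | hb1
    · rw [← hab, cidx_eq_one_iff.mpr (mul_mem (cidx_eq_one_iff.mp ha1) (cidx_eq_one_iff.mp hb1))] at hvA
      exact absurd hvA h.A_lt.ne
    · exact absurd (hrn.trans ((hsmall b hbz hb1).symm ▸ orderOf_dvd_of_pow_eq_one hbm)) hm
  have hvr : ∃ k, v ^ r ^ k = 1 := ⟨k, orderOf_dvd_iff_pow_eq_one.mp (by
    rw [hvo, ← hsmall a haz haA]; exact orderOf_dvd_of_pow_eq_one hak)⟩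
  -- the centraliser of `v`
  obtain ⟨P, hP⟩ := exists_sylow_le (r := p) (H := Subgroup.centralizer ({v} : Set G)) (by
    show ¬ p ∣ cidx v
    rw [hvA]; exact h.A_p)
  obtain ⟨w, hwP, hw1⟩ := h.exists_noncentral P
  obtain ⟨kw, hkw⟩ := P.2 ⟨w, hwP⟩
  have hwk : w ^ p ^ kw = 1 := congrArg Subtype.val hkw
  have hvn : v ^ n = 1 := hvo ▸ pow_orderOf_eq_one v
  obtain ⟨hwA, hwv⟩ := (h.pair (show Commute w v from Subgroup.mem_centralizer_singleton_iff.mp (hP hwP))
    hwk hvn hpn).2 hvA hw1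
  -- an element centralised by a Sylow `r`-subgroup
  obtain ⟨s, m₁, hm₁, hs, hrs⟩ := h.exr r hr hrp
  obtain ⟨c, hcs⟩ := exists_conj_comm (g := s) (hs ▸ hrs) hvr
  have hsc : cidx (c * s * c⁻¹) = q * m₁ := (cidx_conj c s).trans hs
  generalize c * s * c⁻¹ = s' at hcs hsc
  obtain ⟨a', b', hab', -, ⟨k', hak'⟩, ⟨m', hm', hbm'⟩, haz', hbz'⟩ := exists_parts' (p := p) s'
  have hs'C : s' ∈ Subgroup.centralizer ({v} : Set G) := Subgroup.mem_centralizer_singleton_iff.mpr hcs
  have ha'C : a' ∈ Subgroup.centralizer ({v} : Set G) := Subgroup.zpowers_le.mpr hs'C haz'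
  have hb'C : b' ∈ Subgroup.centralizer ({v} : Set G) := Subgroup.zpowers_le.mpr hs'C hbz'
  have ha' : cidx a' = 1 ∨ Subgroup.centralizer ({a'} : Set G) = Subgroup.centralizer {v} := by
    by_cases h1 : cidx a' = 1
    · exact Or.inl h1
    · exact Or.inr ((h.pair (Subgroup.mem_centralizer_singleton_iff.mp ha'C) hak' hvn hpn).2 hvA h1).2
  have hb' : cidx b' = 1 ∨ Subgroup.centralizer ({b'} : Set G) = Subgroup.centralizer {v} := by
    by_cases h1 : cidx b' = 1
    · exact Or.inl h1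
    · rw [← hwv] at hb'C ⊢
      exact Or.inr ((h.pair (Subgroup.mem_centralizer_singleton_iff.mp hb'C).symm hwk hbm' hm').1 hwA h1).2.symm
  have hle : Subgroup.centralizer ({v} : Set G) ≤ Subgroup.centralizer {s'} := by
    intro g hg
    have hz : ∀ z : G, cidx z = 1 → Commute g z := fun z hz =>
      Subgroup.mem_center_iff.mp (cidx_eq_one_iff.mp hz) g
    have h1 : Commute g a' := ha'.elim (hz a') fun e => Subgroup.mem_centralizer_singleton_iff.mp (e.symm ▸ hg)
    have h2 : Commute g b' := hb'.elim (hz b') fun e => Subgroup.mem_centralizer_singleton_iff.mp (e.symm ▸ hg)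
    rw [Subgroup.mem_centralizer_singleton_iff, ← hab']
    exact h1.mul_right h2
  refine h.A_p ?_
  rw [← hvA]
  exact ((dvd_mul_of_dvd_left h.p_dvd_q m₁).trans hsc.symm.dvd).trans (cidx_dvd_of_le hle)

theorem exists_p_A : ∃ u : G, (∃ k, u ^ p ^ k = 1) ∧ cidx u = A := by
  obtain ⟨x, hx⟩ := h.exA
  obtain ⟨a, b, hab, -, ha, hb, haz, hbz⟩ := exists_parts' (p := p) x
  rcases h.dvd_A_cases (hx ▸ cidx_dvd_of_le (cent_le_of_mem_zpowers haz)) with ha1 | ha1
  · rcases h.dvd_A_cases (hx ▸ cidx_dvd_of_le (cent_le_of_mem_zpowers hbz)) with hb1 | hb1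
    · rw [← hab, cidx_eq_one_iff.mpr (mul_mem (cidx_eq_one_iff.mp ha1) (cidx_eq_one_iff.mp hb1))] at hx
      exact absurd hx h.A_lt.ne
    · exact absurd hb1 (h.no_prime_A hb)
  · exact ⟨a, ha, ha1⟩

omit h in
/-- The image of the centraliser in the quotient by the centre. -/
theorem index_cent_map (g : G) :
    ((Subgroup.centralizer ({g} : Set G)).map (QuotientGroup.mk' (Subgroup.center G))).index = cidx g :=
  Subgroup.index_map_eq _ (QuotientGroup.mk'_surjective _)
    (by rw [QuotientGroup.ker_mk']; exact Subgroup.center_le_centralizer _)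

omit h in
theorem isPGroup_cent_map {g : G}
    (hb : ∀ b ∈ Subgroup.centralizer ({g} : Set G), (∃ m, ¬ p ∣ m ∧ b ^ m = 1) → cidx b = 1) :
    IsPGroup p ((Subgroup.centralizer ({g} : Set G)).map (QuotientGroup.mk' (Subgroup.center G))) := by
  rintro ⟨_, y, hy, rfl⟩
  obtain ⟨a, b, hab, -, ⟨k, hk⟩, hb', -, hbz⟩ := exists_parts' (p := p) y
  refine ⟨k, Subtype.ext ?_⟩
  have h1 : QuotientGroup.mk' (Subgroup.center G) b = 1 :=
    (QuotientGroup.eq_one_iff b).mpr (cidx_eq_one_iff.mp (hb b (Subgroup.zpowers_le.mpr hy hbz) hb'))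
  show (QuotientGroup.mk' (Subgroup.center G) y) ^ p ^ k = 1
  rw [← hab, map_mul, h1, mul_one, ← map_pow, hk, map_one]

/-- Centralisers of elements of class size `A` contain no noncentral element of order prime to `p`. -/
theorem cent_A {u : G} (hu : ∃ k, u ^ p ^ k = 1) (huA : cidx u = A) :
    IsPGroup p ((Subgroup.centralizer ({u} : Set G)).map (QuotientGroup.mk' (Subgroup.center G))) := by
  refine isPGroup_cent_map fun b hbC hb => ?_
  by_contra hb1
  obtain ⟨k, hk⟩ := hu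
  obtain ⟨m, hm, hbm⟩ := hb
  exact h.no_prime_A ⟨m, hm, hbm⟩
    ((h.pair (show Commute b u from Subgroup.mem_centralizer_singleton_iff.mp hbC).symm hk hbm hm).1 huA hb1).1

theorem card_quotient_eq_mul : ∃ a, Nat.card (G ⧸ Subgroup.center G) = A * p ^ a := by
  obtain ⟨u, hu, huA⟩ := h.exists_p_A
  obtain ⟨a, ha⟩ := IsPGroup.iff_card.mp (h.cent_A hu huA)
  refine ⟨a, ?_⟩
  rw [← Subgroup.card_mul_index ((Subgroup.centralizer ({u} : Set G)).map
    (QuotientGroup.mk' (Subgroup.center G))), ha, index_cent_map, huA, mul_comm]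

/-- All noncentral `p`-elements have class size `A`. -/
theorem p_elem_A {w : G} (hw : ∃ k, w ^ p ^ k = 1) (hw1 : cidx w ≠ 1) : cidx w = A := by
  by_contra hwA
  obtain ⟨m, hm, hwm⟩ := ((h.classes w).resolve_left hw1).resolve_left hwA
  obtain ⟨u₀, hu₀, hu₀A⟩ := h.exists_p_A
  obtain ⟨c, hc⟩ := exists_conj_comm (g := u₀) (hu₀A ▸ h.A_p) hw
  have huA : cidx (c * u₀ * c⁻¹) = A := (cidx_conj c u₀).trans hu₀A
  have hu : ∃ k, (c * u₀ * c⁻¹) ^ p ^ k = 1 := by
    obtain ⟨k, hk⟩ := hu₀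
    exact ⟨k, by rw [conj_pow, hk, mul_one, mul_inv_cancel]⟩
  generalize c * u₀ * c⁻¹ = u at hc huA hu
  obtain ⟨k, hk⟩ := hw
  obtain ⟨ku, hku⟩ := hu
  have hpG : IsPGroup p ((Subgroup.centralizer ({w} : Set G)).map (QuotientGroup.mk' (Subgroup.center G))) := by
    refine isPGroup_cent_map fun v hvC ⟨n, hn, hvn⟩ => ?_
    by_contra hv1
    have hwv : Commute w v := (Subgroup.mem_centralizer_singleton_iff.mp hvC).symm
    obtain ⟨lw, lv⟩ := cent_mul_le hwv hk hvn hn
    have hnuv : ¬ Commute u v := fun huv =>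
      h.no_prime_A ⟨n, hn, hvn⟩ ((h.pair huv hku hvn hn).1 huA hv1).1
    obtain ⟨m', hm', hwvm⟩ : ∃ m' ∈ M, cidx (w * v) = q * m' := by
      refine ((h.classes _).resolve_left fun e => hw1 ?_).resolve_left fun e => h.A_p ?_
      · exact Nat.eq_one_of_dvd_one (e ▸ cidx_dvd_of_le lw)
      · exact ((dvd_mul_of_dvd_left h.p_dvd_q m).trans hwm.symm.dvd).trans (e ▸ cidx_dvd_of_le lw)
    have hdvd : m ∣ m' := Nat.dvd_of_mul_dvd_mul_left h.q_pos (hwm ▸ hwvm ▸ cidx_dvd_of_le lw)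
    have huw : u ∈ Subgroup.centralizer ({w} : Set G) := Subgroup.mem_centralizer_singleton_iff.mpr hc
    have huwv : u ∈ Subgroup.centralizer ({w * v} : Set G) := by
      rcases h.ratio m hm m' hm' hdvd with e | ⟨e, hp2⟩
      · rw [cent_eq_of_le lw (by rw [hwvm, hwm, e])]; exact huw
      · have hidx : ((Subgroup.centralizer ({w * v} : Set G)).subgroupOf
            (Subgroup.centralizer ({w} : Set G))).index = 2 := by
          have h1 : _ = cidx (w * v) := Subgroup.relIndex_mul_index lw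
          rw [hwvm, show (Subgroup.centralizer ({w} : Set G)).index = q * m from hwm, e,
            show q * (2 * m) = 2 * (q * m) by ring] at h1
          exact Nat.eq_of_mul_eq_mul_right (Nat.mul_pos h.q_pos (h.mem_M m hm).1) h1
        have h2 : u ^ 2 ∈ Subgroup.centralizer ({w * v} : Set G) :=
          Subgroup.sq_mem_of_index_two hidx ⟨u, huw⟩
        have hcop : Nat.Coprime 2 (p ^ ku) :=
          ((Nat.coprime_primes Nat.prime_two hp.out).mpr (Ne.symm hp2)).pow_right ku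
        obtain ⟨i, hi⟩ := exists_pow_eq_self_of_coprime (n := 2) (x := u)
          (hcop.coprime_dvd_right (orderOf_dvd_of_pow_eq_one hku))
        rw [← hi]
        exact pow_mem h2 i
    exact hnuv (Subgroup.mem_centralizer_singleton_iff.mp (lv huwv))
  obtain ⟨b, hb⟩ := IsPGroup.iff_card.mp hpG
  obtain ⟨a, ha⟩ := h.card_quotient_eq_mul
  have h1 := Subgroup.card_mul_index ((Subgroup.centralizer ({w} : Set G)).map
    (QuotientGroup.mk' (Subgroup.center G)))
  rw [hb, index_cent_map, hwm, ha, ← mul_assoc] at h1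
  have h2 : A ∣ p ^ b * q * m := h1 ▸ dvd_mul_right A _
  have hcop : Nat.Coprime A (p ^ b * q) :=
    Nat.Coprime.mul_right ((hp.out.coprime_iff_not_dvd.mpr h.A_p).pow_left b).symm h.coprime_q
  exact absurd (Nat.le_of_dvd (h.mem_M m hm).1 (hcop.dvd_of_dvd_mul_left h2)) (not_le.mpr (h.mem_M m hm).2.1)

/-- The centraliser of a noncentral element with trivial `p`-part contains no noncentral `p`-element. -/
theorem no_mixed {a b : G} (hc : Commute a b) (ha : ∃ k, a ^ p ^ k = 1) (hb : ∃ m, ¬ p ∣ m ∧ b ^ m = 1) :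
    cidx a = 1 ∨ cidx b = 1 := by
  by_contra hcon
  push Not at hcon
  obtain ⟨k, hk⟩ := ha
  obtain ⟨m, hm, hbm⟩ := hb
  exact h.no_prime_A ⟨m, hm, hbm⟩ ((h.pair hc hk hbm hm).1 (h.p_elem_A ⟨k, hk⟩ hcon.1) hcon.2).1

/-- The order of the quotient by the centre. -/
theorem card_quotient : Nat.card (G ⧸ Subgroup.center G) = q * A := by
  obtain ⟨r, hr, hrp⟩ : ∃ r : ℕ, r.Prime ∧ r ≠ p := by
    by_cases h2 : p = 2
    · exact ⟨3, Nat.prime_three, by omega⟩
    · exact ⟨2, Nat.prime_two, Ne.symm h2⟩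
  obtain ⟨g, m, hm, hg, -⟩ := h.exr r hr hrp
  obtain ⟨a, ha⟩ := h.card_quotient_eq_mul
  obtain ⟨u, v, huv, -, hu, hv, huz, hvz⟩ := exists_parts' (p := p) g
  have hv1 : cidx v ≠ 1 := by
    intro hv1
    have hle : Subgroup.centralizer ({u} : Set G) ≤ Subgroup.centralizer {g} := fun x hx => by
      rw [Subgroup.mem_centralizer_singleton_iff] at hx ⊢
      rw [← huv]
      exact Commute.mul_right hx (Subgroup.mem_center_iff.mp (cidx_eq_one_iff.mp hv1) x)
    have h1 := cidx_dvd_of_le hle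
    rw [hg] at h1
    by_cases hu1 : cidx u = 1
    · rw [hu1] at h1
      exact hp.out.not_dvd_one ((dvd_mul_of_dvd_left h.p_dvd_q m).trans h1)
    · rw [h.p_elem_A hu hu1] at h1
      exact h.A_p ((dvd_mul_of_dvd_left h.p_dvd_q m).trans h1)
  have hnd : ¬ p ∣ Nat.card ((Subgroup.centralizer ({g} : Set G)).map
      (QuotientGroup.mk' (Subgroup.center G))) := by
    intro hd
    obtain ⟨⟨_, y, hy, rfl⟩, hyo⟩ := exists_prime_orderOf_dvd_card' p hd
    rw [← Subgroup.orderOf_coe] at hyo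
    obtain ⟨a', b', hab', -, ⟨k, hk⟩, hb', haz', -⟩ := exists_parts' (p := p) y
    have ha' : a' ∈ Subgroup.centralizer ({g} : Set G) := Subgroup.zpowers_le.mpr hy haz'
    have hc : Commute a' v := Subgroup.mem_centralizer_singleton_iff.mp
      (cent_le_of_mem_zpowers hvz ha')
    have ha1 := (h.no_mixed hc ⟨k, hk⟩ hv).resolve_right hv1
    obtain ⟨n, hn, hbn⟩ := hb'
    have h1 : (QuotientGroup.mk' (Subgroup.center G) y) ^ n = 1 := by
      rw [← hab', map_mul, show QuotientGroup.mk' (Subgroup.center G) a' = 1 from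
        (QuotientGroup.eq_one_iff a').mpr (cidx_eq_one_iff.mp ha1), one_mul, ← map_pow, hbn, map_one]
    exact hn (hyo ▸ orderOf_dvd_of_pow_eq_one h1)
  have h1 := Subgroup.card_mul_index ((Subgroup.centralizer ({g} : Set G)).map
    (QuotientGroup.mk' (Subgroup.center G)))
  rw [index_cent_map, hg, ha] at h1
  obtain ⟨f, -, hf⟩ := h.qpow
  have h2 := congrArg (fun n => n.factorization p) h1
  beta_reduce at h2
  rw [Nat.factorization_mul Nat.card_pos.ne' (Nat.mul_ne_zero h.q_pos.ne' (h.mem_M m hm).1.ne'),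
    Nat.factorization_mul h.q_pos.ne' (h.mem_M m hm).1.ne',
    Nat.factorization_mul (show A ≠ 0 by have := h.A_lt; omega) (pow_ne_zero _ hp.out.ne_zero),
    Finsupp.add_apply, Finsupp.add_apply, Finsupp.add_apply,
    Nat.factorization_eq_zero_of_not_dvd hnd, Nat.factorization_eq_zero_of_not_dvd (h.mem_M m hm).2.2,
    Nat.factorization_eq_zero_of_not_dvd h.A_p, hf, hp.out.factorization_pow, hp.out.factorization_pow,
    Finsupp.single_eq_same, Finsupp.single_eq_same, zero_add, add_zero, zero_add] at h2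
  rw [ha, hf, h2, mul_comm]

/-- In the quotient by the centre, elements of order divisible by `p` are `p`-elements. -/
theorem quotient_cc (y : G ⧸ Subgroup.center G) (hy : p ∣ orderOf y) (r : ℕ) (hr : r.Prime)
    (hry : r ∣ orderOf y) : r = p := by
  obtain ⟨g, rfl⟩ := QuotientGroup.mk'_surjective (Subgroup.center G) y
  obtain ⟨a, b, hab, hc, ⟨k, hk⟩, ⟨m, hm, hbm⟩, -, -⟩ := exists_parts' (p := p) g
  rcases h.no_mixed hc ⟨k, hk⟩ ⟨m, hm, hbm⟩ with h1 | h1
  · exfalso
    refine hm (hy.trans (orderOf_dvd_of_pow_eq_one ?_))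
    rw [← hab, map_mul, show QuotientGroup.mk' (Subgroup.center G) a = 1 from
      (QuotientGroup.eq_one_iff a).mpr (cidx_eq_one_iff.mp h1), one_mul, ← map_pow, hbm, map_one]
  · refine (Nat.prime_dvd_prime_iff_eq hr hp.out).mp (hr.dvd_of_dvd_pow (n := k) (hry.trans
      (orderOf_dvd_of_pow_eq_one ?_)))
    rw [← hab, map_mul, show QuotientGroup.mk' (Subgroup.center G) b = 1 from
      (QuotientGroup.eq_one_iff b).mpr (cidx_eq_one_iff.mp h1), mul_one, ← map_pow, hk, map_one]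

omit h in
theorem cent_map_le (g : G) : (Subgroup.centralizer ({g} : Set G)).map (QuotientGroup.mk' (Subgroup.center G))
    ≤ Subgroup.centralizer {QuotientGroup.mk' (Subgroup.center G) g} := by
  rintro _ ⟨x, hx, rfl⟩
  rw [Subgroup.mem_centralizer_singleton_iff, ← map_mul, ← map_mul,
    Subgroup.mem_centralizer_singleton_iff.mp hx]

/-- In the quotient by the centre every `p`-element centralises a Sylow subgroup. -/
theorem quotient_cen (w : G ⧸ Subgroup.center G) (hw1 : w ≠ 1) (hw : ∃ k, w ^ p ^ k = 1) :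
    ¬ p ∣ (Subgroup.centralizer ({w} : Set (G ⧸ Subgroup.center G))).index := by
  obtain ⟨g, rfl⟩ := QuotientGroup.mk'_surjective (Subgroup.center G) w
  obtain ⟨a, b, hab, -, ⟨k', hk'⟩, ⟨m, hm, hbm⟩, -, hbz⟩ := exists_parts' (p := p) g
  obtain ⟨k, hk⟩ := hw
  have hb1 : QuotientGroup.mk' (Subgroup.center G) b = 1 := by
    obtain ⟨i, hi⟩ := Subgroup.mem_zpowers_iff.mp hbz
    have h1 : (QuotientGroup.mk' (Subgroup.center G) b) ^ p ^ k = 1 := by
      rw [← hi, map_zpow, ← zpow_natCast, ← zpow_mul, mul_comm, zpow_mul, zpow_natCast, hk, one_zpow]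
    have h2 := pow_gcd_eq_one.mpr ⟨h1, (show (QuotientGroup.mk' (Subgroup.center G) b) ^ m = 1 by
      rw [← map_pow, hbm, map_one])⟩
    rwa [Nat.Coprime.gcd_eq_one ((hp.out.coprime_iff_not_dvd.mpr hm).pow_left k), pow_one] at h2
  rw [← hab, map_mul, hb1, mul_one] at hw1 ⊢
  intro hd
  have h1 := hd.trans (Subgroup.index_dvd_of_le (cent_map_le a))
  rw [index_cent_map, h.p_elem_A ⟨k', hk'⟩ fun e =>
    hw1 ((QuotientGroup.eq_one_iff a).mpr (cidx_eq_one_iff.mp e))] at h1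
  exact h.A_p h1

/-- Centralisers of elements of prime order in the quotient by the centre. -/
theorem quotient_prime {t : G ⧸ Subgroup.center G} {r : ℕ} (hr : r.Prime) (hrp : r ≠ p)
    (ht : orderOf t = r) :
    ∃ x : G, QuotientGroup.mk' (Subgroup.center G) x = t ∧ ∃ m ∈ M, cidx x = q * m ∧ ∃ j,
      Nat.card (Subgroup.centralizer ({t} : Set (G ⧸ Subgroup.center G))) * m = r ^ j * A ∧
      r * m ∣ A := by
  classical
  haveI := Fact.mk hr
  obtain ⟨x, rfl⟩ := QuotientGroup.mk'_surjective (Subgroup.center G) t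
  set π := QuotientGroup.mk' (Subgroup.center G) with hπ
  have hx1 : cidx x ≠ 1 := fun e => by
    rw [show π x = 1 from (QuotientGroup.eq_one_iff x).mpr (cidx_eq_one_iff.mp e), orderOf_one] at ht
    exact hr.ne_one ht.symm
  obtain ⟨m, hm, hxm⟩ : ∃ m ∈ M, cidx x = q * m := by
    refine ((h.classes x).resolve_left hx1).resolve_left fun hxA => ?_
    obtain ⟨a, b, hab, -, ⟨k, hk⟩, hb, haz, hbz⟩ := exists_parts' (p := p) x
    have ha1 : π a = 1 := by
      obtain ⟨i, hi⟩ := Subgroup.mem_zpowers_iff.mp haz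
      have h1 : (π a) ^ r = 1 := by
        rw [← hi, map_zpow, ← zpow_natCast, ← zpow_mul, mul_comm, zpow_mul, zpow_natCast, ← ht,
          pow_orderOf_eq_one, one_zpow]
      have h2 := pow_gcd_eq_one.mpr ⟨(show (π a) ^ p ^ k = 1 by rw [← map_pow, hk, map_one]), h1⟩
      rwa [Nat.Coprime.gcd_eq_one (((Nat.coprime_primes hp.out hr).mpr hrp.symm).pow_left k), pow_one] at h2
    have hle : Subgroup.centralizer ({b} : Set G) ≤ Subgroup.centralizer {x} := fun g hg => by
      rw [Subgroup.mem_centralizer_singleton_iff] at hg ⊢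
      rw [← hab]
      exact Commute.mul_right (Subgroup.mem_center_iff.mp ((QuotientGroup.eq_one_iff a).mp ha1) g) hg
    exact h.no_prime_A hb (Nat.dvd_antisymm (hxA ▸ cidx_dvd_of_le (cent_le_of_mem_zpowers hbz))
      (hxA ▸ cidx_dvd_of_le hle))
  refine ⟨x, rfl, m, hm, hxm, ?_⟩
  set C := Subgroup.centralizer ({π x} : Set (G ⧸ Subgroup.center G)) with hC
  set C' := (Subgroup.centralizer ({x} : Set G)).map π with hC'
  have hC'C : C' ≤ C := cent_map_le x
  have hcard : Nat.card C' * m = A := by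
    have h1 := Subgroup.card_mul_index C'
    rw [index_cent_map, hxm, h.card_quotient, ← mul_assoc, mul_comm (Nat.card C') q, mul_assoc] at h1
    exact Nat.eq_of_mul_eq_mul_left h.q_pos h1
  have hrC' : r ∣ Nat.card C' := by
    rw [← ht]
    exact Subgroup.orderOf_dvd_natCard _ ⟨x, Subgroup.mem_centralizer_singleton_iff.mpr rfl, rfl⟩
  -- the twist
  have htw : ∀ g : G, π g ∈ C → ∃ z ∈ Subgroup.center G, g * x * g⁻¹ = x * z ∧ z ^ r = 1 := by
    intro g hg
    rw [hC, Subgroup.mem_centralizer_singleton_iff, ← map_mul, ← map_mul] at hg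
    have hz : x⁻¹ * (g * x * g⁻¹) ∈ Subgroup.center G := by
      have h0 : π (x⁻¹ * (g * x * g⁻¹)) = 1 := by
        rw [map_mul, map_inv, map_mul π (g * x), hg, map_mul, map_inv]
        group
      exact (QuotientGroup.eq_one_iff _).mp h0
    refine ⟨_, hz, by group, ?_⟩
    have h1 : x ^ r ∈ Subgroup.center G := (QuotientGroup.eq_one_iff _).mp (by
      show π (x ^ r) = 1
      rw [map_pow, ← ht, pow_orderOf_eq_one])
    have hc : Commute x (x⁻¹ * (g * x * g⁻¹)) := Subgroup.mem_center_iff.mp hz x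
    have h2 : (g * x * g⁻¹) ^ r = x ^ r := by
      rw [conj_pow, Subgroup.mem_center_iff.mp h1 g, mul_inv_cancel_right]
    have h3 : (x * (x⁻¹ * (g * x * g⁻¹))) ^ r = x ^ r := by rw [mul_inv_cancel_left, h2]
    rw [hc.mul_pow] at h3
    exact mul_eq_left.mp h3
  have hpowr : ∀ g : C, (g : G ⧸ Subgroup.center G) ^ r ∈ C' := by
    rintro ⟨y, hy⟩
    obtain ⟨g, rfl⟩ := QuotientGroup.mk'_surjective (Subgroup.center G) y
    obtain ⟨z, hz, hgz, hzr⟩ := htw g hy
    refine ⟨g ^ r, ?_, map_pow π g r⟩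
    rw [SetLike.mem_coe, Subgroup.mem_centralizer_singleton_iff]
    have h1 : ∀ n : ℕ, g ^ n * x * (g ^ n)⁻¹ = x * z ^ n := by
      intro n
      induction n with
      | zero => simp
      | succ n ih =>
        calc g ^ (n + 1) * x * (g ^ (n + 1))⁻¹ = g * (g ^ n * x * (g ^ n)⁻¹) * g⁻¹ := by
              rw [pow_succ']; group
          _ = g * (x * z ^ n) * g⁻¹ := by rw [ih]
          _ = g * x * g⁻¹ * z ^ n := by
              have h4 : g⁻¹ * z ^ n = z ^ n * g⁻¹ := Subgroup.mem_center_iff.mp (pow_mem hz n) g⁻¹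
              rw [mul_assoc g x, mul_assoc g (x * z ^ n), mul_assoc x, ← h4]
              group
          _ = x * z ^ (n + 1) := by rw [hgz, pow_succ', mul_assoc]
    have h2 := h1 r
    rw [hzr, mul_one] at h2
    exact mul_inv_eq_iff_eq_mul.mp h2
  haveI hnormal : (C'.subgroupOf C).Normal := by
    refine ⟨?_⟩
    rintro ⟨c, hc⟩ hcC' ⟨y, hy⟩
    obtain ⟨c₀, hc₀, rfl⟩ := hcC'
    obtain ⟨g, rfl⟩ := QuotientGroup.mk'_surjective (Subgroup.center G) y
    obtain ⟨z, hz, hgz, -⟩ := htw g⁻¹ (by rw [map_inv]; exact inv_mem hy)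
    rw [inv_inv] at hgz
    refine ⟨g * c₀ * g⁻¹, ?_, ?_⟩
    · rw [SetLike.mem_coe, Subgroup.mem_centralizer_singleton_iff] at hc₀ ⊢
      have h1 : c₀ * (g⁻¹ * x * g) = (g⁻¹ * x * g) * c₀ := by
        rw [hgz, ← mul_assoc, hc₀, mul_assoc, Subgroup.mem_center_iff.mp hz c₀, mul_assoc]
      calc g * c₀ * g⁻¹ * x = g * (c₀ * (g⁻¹ * x * g)) * g⁻¹ := by group
        _ = g * ((g⁻¹ * x * g) * c₀) * g⁻¹ := by rw [h1]
        _ = x * (g * c₀ * g⁻¹) := by group
    · show π (g * c₀ * g⁻¹) = π g * π c₀ * (π g)⁻¹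
      rw [map_mul, map_mul, map_inv]
  have hq : IsPGroup r (C ⧸ C'.subgroupOf C) := by
    intro y
    induction y using QuotientGroup.induction_on with
    | _ g =>
      refine ⟨1, ?_⟩
      rw [pow_one, ← QuotientGroup.mk_pow, QuotientGroup.eq_one_iff, Subgroup.mem_subgroupOf,
        Subgroup.coe_pow]
      exact hpowr g
  obtain ⟨j, hj⟩ := IsPGroup.iff_card.mp hq
  refine ⟨j, ?_, ?_⟩
  · rw [← hcard, ← Subgroup.card_mul_index (C'.subgroupOf C), Subgroup.index, hj,
      Nat.card_congr (Subgroup.subgroupOfEquivOfLe hC'C).toEquiv]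
    ring
  · rw [← hcard]
    exact mul_dvd_mul_right hrC' m

end SizeData

end Cfsg.Agent.Lie.ClassSizePSL
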