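import Mathlib
import Cfsg.Agent.Lib.Lie.PSLClassSizes.Sizes
import Cfsg.Agent.Lib.Lie.PSLClassSizes.Recognition
import Cfsg.Agent.Lib.Small.SL2.ClassSize

/-!
A group with the class sizes of `PSL(2,q)` is `PSL(2,q)` modulo its centre.
-/

set_option autoImplicit false
set_option linter.unusedSectionVars false
set_option linter.style.haveILetI false
set_option maxHeartbeats 1000000

namespace Cfsg.Agent.Lie.ClassSizePSL

universe u v

/-- The class sizes prime-to-`q` parts. -/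
def pslM (q : ℕ) : Set ℕ :=
  if Even q then {q - 1, q + 1}
  else if q % 4 = 1 then {(q + 1) / 2, q - 1, q + 1} else {(q - 1) / 2, q - 1, q + 1}

theorem pslM_cases {q m : ℕ} (hm : m ∈ pslM q) :
    (Even q ∧ (m = q - 1 ∨ m = q + 1)) ∨
      (q % 4 = 1 ∧ (m = (q + 1) / 2 ∨ m = q - 1 ∨ m = q + 1)) ∨
      (q % 4 = 3 ∧ (m = (q - 1) / 2 ∨ m = q - 1 ∨ m = q + 1)) := by
  unfold pslM at hm
  split_ifs at hm with he h1
  · exact Or.inl ⟨he, hm⟩
  · exact Or.inr (Or.inl ⟨h1, hm⟩)
  · refine Or.inr (Or.inr ⟨?_, hm⟩)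
    rw [Nat.not_even_iff] at he
    omega

theorem sizeData {F : Type v} [Field F] [Fintype F]
    (hq : (2 ∣ Fintype.card F ∧ 2 < Fintype.card F) ∨ (¬ 2 ∣ Fintype.card F ∧ 7 ≤ Fintype.card F))
    {G : Type u} [Group G]
    (h : Set.range (fun g : G => (Subgroup.centralizer ({g} : Set G)).index) =
      Set.range (fun g : (Matrix.ProjectiveSpecialLinearGroup (Fin 2) F) =>
        (Subgroup.centralizer ({g} : Set (Matrix.ProjectiveSpecialLinearGroup (Fin 2) F))).index)) :
    ∃ p f A : ℕ, p.Prime ∧ Fintype.card F = p ^ f ∧ 4 ≤ Fintype.card F ∧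
      (Odd (Fintype.card F) → 7 ≤ Fintype.card F) ∧ A * Nat.gcd 2 (Fintype.card F - 1) = Fintype.card F ^ 2 - 1 ∧
      SizeData G p (Fintype.card F) A (pslM (Fintype.card F)) := by
  obtain ⟨p, -, f, hpp, hf⟩ := FiniteField.card' F
  obtain ⟨q, hqd⟩ : ∃ q, q = Fintype.card F := ⟨_, rfl⟩
  rw [← hqd] at hf ⊢
  rw [← hqd] at hq
  have hp2 : p = 2 ↔ 2 ∣ q := by
    rw [hf]
    exact ⟨fun e => e ▸ dvd_pow_self _ f.ne_zero,
      fun e => ((Nat.prime_dvd_prime_iff_eq Nat.prime_two hpp).mp (Nat.prime_two.dvd_of_dvd_pow e)).symm⟩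
  have hpq : p ∣ q := hf ▸ dvd_pow_self p f.ne_zero
  have hp1 : ∀ {m : ℕ}, (m = q - 1 ∨ m = q + 1) → 2 ≤ q → ¬ p ∣ m := by
    rintro m (rfl | rfl) h2 hd
    · have := Nat.dvd_sub hpq hd
      rw [show q - (q - 1) = 1 by omega] at this
      exact hpp.not_dvd_one this
    · have := Nat.dvd_sub hd hpq
      rw [show q + 1 - q = 1 by omega] at this
      exact hpp.not_dvd_one this
  have hsq : q ^ 2 - 1 = (q + 1) * (q - 1) := by rw [← Nat.sq_sub_sq, one_pow]
  have hpsq : 2 ≤ q → ¬ p ∣ q ^ 2 - 1 := fun h2 hd => by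
    rw [hsq] at hd
    rcases hpp.dvd_mul.mp hd with h | h
    · exact hp1 (Or.inr rfl) h2 h
    · exact hp1 (Or.inl rfl) h2 h
  rcases hq with ⟨he, h2⟩ | ⟨ho, h7⟩
  · have hE : Even q := even_iff_two_dvd.mpr he
    have hq4 : 4 ≤ q := by obtain ⟨i, hi⟩ := hE; omega
    have hset := Small.SL2C.class_sizes_even (F := F) (Small.SL2C.two_dvd_iff.mp (hqd ▸ he)) (hqd ▸ hq4)
    rw [← h, ← hqd] at hset
    have hmem : ∀ g : G, cidx g ∈ ({1, q * (q - 1), q ^ 2 - 1, q * (q + 1)} : Set ℕ) := fun g =>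
      hset ▸ Set.mem_range_self g
    have hattain : ∀ n ∈ ({1, q * (q - 1), q ^ 2 - 1, q * (q + 1)} : Set ℕ), ∃ g : G, cidx g = n :=
      fun n hn => by rw [← hset] at hn; exact hn
    have hd : Nat.gcd 2 (q - 1) = 1 := by
      obtain ⟨i, hi⟩ := hE
      exact Nat.coprime_two_left.mpr ⟨i - 1, by omega⟩
    refine ⟨p, f, q ^ 2 - 1, hpp, hf, hq4, fun ho => absurd hE (Nat.not_even_iff_odd.mpr ho),
      by rw [hd, mul_one], ⟨⟨f, f.pos, hf⟩, ?_, hpsq (by omega), ?_, ?_, ?_, ?_, ?_⟩⟩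
    · have : 4 * 4 ≤ q ^ 2 := by rw [sq]; exact Nat.mul_le_mul hq4 hq4
      omega
    · intro m hm
      unfold pslM at hm
      rw [if_pos hE] at hm
      have h3 : 4 * q ≤ q ^ 2 := by rw [sq]; exact Nat.mul_le_mul_right q hq4
      rcases hm with rfl | rfl
      · exact ⟨by omega, by omega, hp1 (Or.inl rfl) (by omega)⟩
      · exact ⟨by omega, by omega, hp1 (Or.inr rfl) (by omega)⟩
    · intro g
      simp only [pslM, if_pos hE, Set.mem_insert_iff, Set.mem_singleton_iff, exists_eq_or_imp, exists_eq_left]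
      rcases hmem g with e | e | e | e
      · exact Or.inl e
      · exact Or.inr (Or.inr (Or.inl e))
      · exact Or.inr (Or.inl e)
      · exact Or.inr (Or.inr (Or.inr e))
    · exact hattain _ (Or.inr (Or.inr (Or.inl rfl)))
    · intro r hr hrp
      haveI := Fact.mk hr
      have hr2 : r ≠ 2 := fun e => hrp (e.trans (hp2.mpr he).symm)
      have hrq : ¬ r ∣ q := fun e => hrp ((Nat.prime_dvd_prime_iff_eq hr hpp).mp (hr.dvd_of_dvd_pow (hf ▸ e)))
      by_cases h1 : r ∣ q - 1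
      · obtain ⟨g, hg⟩ := hattain (q * (q + 1)) (Or.inr (Or.inr (Or.inr rfl)))
        refine ⟨g, q + 1, by simp [pslM, hE], hg, fun e => ?_⟩
        have h3 := Nat.dvd_sub ((hr.dvd_mul.mp e).resolve_left hrq) h1
        rw [show q + 1 - (q - 1) = 2 by omega] at h3
        exact hr2 ((Nat.prime_dvd_prime_iff_eq hr Nat.prime_two).mp h3)
      · obtain ⟨g, hg⟩ := hattain (q * (q - 1)) (Or.inr (Or.inl rfl))
        exact ⟨g, q - 1, by simp [pslM, hE], hg, fun e => h1 ((hr.dvd_mul.mp e).resolve_left hrq)⟩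
    · intro m hm m' hm' hmm
      unfold pslM at hm hm'
      rw [if_pos hE] at hm hm'
      obtain ⟨i, hi⟩ := hmm
      rcases hm with rfl | rfl <;> rcases hm' with rfl | rfl <;> rcases i with _ | _ | i <;>
        first
          | exact Or.inl rfl
          | (exfalso; rw [Nat.mul_succ, Nat.mul_succ] at hi; omega)
          | (exfalso; omega)
  · have hO : ¬ Even q := fun e => ho e.two_dvd
    have hodd : Odd q := Nat.not_even_iff_odd.mp hO
    have hset0 := Small.SL2C.class_sizes_odd (F := F) (Small.SL2C.not_two_dvd_iff.mp (hqd ▸ ho)) (hqd ▸ h7)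
    rw [← h, ← hqd] at hset0
    have hp' : p ≠ 2 := fun e => ho (hp2.mp e)
    obtain ⟨i, hi0, hi⟩ : ∃ i, pslM q = {i, q - 1, q + 1} ∧
        ((q % 4 = 1 ∧ i = (q + 1) / 2) ∨ (q % 4 = 3 ∧ i = (q - 1) / 2)) := by
      by_cases h1 : q % 4 = 1
      · exact ⟨_, by simp [pslM, hO, h1], Or.inl ⟨h1, rfl⟩⟩
      · refine ⟨_, by simp [pslM, hO, h1], Or.inr ⟨?_, rfl⟩⟩
        obtain ⟨j, hj⟩ := hodd
        omega
    have hi2 : 2 * i = q + 1 ∨ 2 * i = q - 1 := by rcases hi with ⟨-, rfl⟩ | ⟨-, rfl⟩ <;> omega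
    have hset : Set.range (fun g : G => (Subgroup.centralizer ({g} : Set G)).index) =
        {1, (q ^ 2 - 1) / 2, q * i, q * (q - 1), q * (q + 1)} := by
      rcases hi with ⟨h1, rfl⟩ | ⟨h3, rfl⟩
      · rw [hset0.1 h1, Nat.mul_div_assoc _ (by omega)]
      · rw [hset0.2 h3, Nat.mul_div_assoc _ (by omega), Set.pair_comm (q * (q + 1))]
    have hmem : ∀ g : G, cidx g ∈ ({1, (q ^ 2 - 1) / 2, q * i, q * (q - 1), q * (q + 1)} : Set ℕ) := fun g =>
      hset ▸ Set.mem_range_self g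
    have hattain : ∀ n ∈ ({1, (q ^ 2 - 1) / 2, q * i, q * (q - 1), q * (q + 1)} : Set ℕ),
        ∃ g : G, cidx g = n := fun n hn => by rw [← hset] at hn; exact hn
    have hd : Nat.gcd 2 (q - 1) = 2 := by
      obtain ⟨j, hj⟩ := hodd
      exact Nat.gcd_eq_left ⟨j, by omega⟩
    have hA2 : (q ^ 2 - 1) / 2 * 2 = q ^ 2 - 1 := Nat.div_mul_cancel (by
      rw [hsq]; obtain ⟨j, hj⟩ := hodd
      exact dvd_mul_of_dvd_right ⟨j, by omega⟩ _)
    have h3 : 7 * q ≤ q ^ 2 := by rw [sq]; exact Nat.mul_le_mul_right q h7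
    refine ⟨p, f, (q ^ 2 - 1) / 2, hpp, hf, by omega, fun _ => h7,
      by rw [hd, hA2], ⟨⟨f, f.pos, hf⟩, by omega,
        fun e => hpsq (by omega) (hA2 ▸ dvd_mul_of_dvd_left e 2), ?_, ?_, ?_, ?_, ?_⟩⟩
    · intro m hm
      rw [hi0] at hm
      rcases hm with rfl | rfl | rfl
      · refine ⟨by omega, by omega, fun e => ?_⟩
        rcases hi2 with h' | h' <;> have := h' ▸ dvd_mul_of_dvd_right e 2
        · exact hp1 (Or.inr rfl) (by omega) this
        · exact hp1 (Or.inl rfl) (by omega) this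
      · exact ⟨by omega, by omega, hp1 (Or.inl rfl) (by omega)⟩
      · exact ⟨by omega, by omega, hp1 (Or.inr rfl) (by omega)⟩
    · intro g
      simp only [hi0, Set.mem_insert_iff, Set.mem_singleton_iff, exists_eq_or_imp, exists_eq_left]
      rcases hmem g with e | e | e | e | e
      · exact Or.inl e
      · exact Or.inr (Or.inl e)
      · exact Or.inr (Or.inr (Or.inl e))
      · exact Or.inr (Or.inr (Or.inr (Or.inl e)))
      · exact Or.inr (Or.inr (Or.inr (Or.inr e)))
    · exact hattain _ (Or.inr (Or.inl rfl))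
    · intro r hr hrp
      have hrq : ¬ r ∣ q := fun e => hrp ((Nat.prime_dvd_prime_iff_eq hr hpp).mp (hr.dvd_of_dvd_pow (hf ▸ e)))
      by_cases hr2 : r = 2
      · obtain ⟨g, hg⟩ := hattain (q * i) (Or.inr (Or.inr (Or.inl rfl)))
        refine ⟨g, i, by simp [hi0], hg, fun e => ?_⟩
        subst hr2
        have := (hr.dvd_mul.mp e).resolve_left hrq
        rcases hi with ⟨h1, rfl⟩ | ⟨h1, rfl⟩ <;> omega
      by_cases h1 : r ∣ q - 1
      · obtain ⟨g, hg⟩ := hattain (q * (q + 1)) (Or.inr (Or.inr (Or.inr (Or.inr rfl))))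
        refine ⟨g, q + 1, by simp [hi0], hg, fun e => ?_⟩
        have h4 := Nat.dvd_sub ((hr.dvd_mul.mp e).resolve_left hrq) h1
        rw [show q + 1 - (q - 1) = 2 by omega] at h4
        exact hr2 ((Nat.prime_dvd_prime_iff_eq hr Nat.prime_two).mp h4)
      · obtain ⟨g, hg⟩ := hattain (q * (q - 1)) (Or.inr (Or.inr (Or.inr (Or.inl rfl))))
        exact ⟨g, q - 1, by simp [hi0], hg, fun e => h1 ((hr.dvd_mul.mp e).resolve_left hrq)⟩
    · intro m hm m' hm' hmm
      rw [hi0] at hm hm'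
      obtain ⟨j, hj⟩ := hmm
      rcases hm with rfl | rfl | rfl <;> rcases hm' with rfl | rfl | rfl <;> rcases j with _ | _ | _ | j <;>
        first
          | exact Or.inl rfl
          | exact Or.inr ⟨by omega, hp'⟩
          | (exfalso; omega)
          | (exfalso; rw [Nat.mul_succ, Nat.mul_succ, Nat.mul_succ] at hj; omega)

variable {G : Type u} [Group G] [Finite G]

theorem quotient_iso {F : Type v} [Field F] [Fintype F] {p f A : ℕ} [hp : Fact p.Prime]
    (hf : Fintype.card F = p ^ f) (hq4 : 4 ≤ Fintype.card F)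
    (hq7 : Odd (Fintype.card F) → 7 ≤ Fintype.card F)
    (hA : A * Nat.gcd 2 (Fintype.card F - 1) = Fintype.card F ^ 2 - 1)
    (h : SizeData G p (Fintype.card F) A (pslM (Fintype.card F))) :
    Nonempty (G ⧸ Subgroup.center G ≃* Matrix.ProjectiveSpecialLinearGroup (Fin 2) F) := by
  obtain ⟨q, hqd⟩ : ∃ q, q = Fintype.card F := ⟨_, rfl⟩
  have hcp := Cfsg.Agent.Classical.Dickson.card_psl F
  have hcard : Nat.card (G ⧸ Subgroup.center G) = Nat.card (Matrix.ProjectiveSpecialLinearGroup (Fin 2) F) := by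
    refine Nat.eq_of_mul_eq_mul_right (Nat.gcd_pos_of_pos_left (Fintype.card F - 1) two_pos) ?_
    rw [hcp, h.card_quotient, mul_assoc, hA]
  have hd : 0 < Nat.gcd 2 (Fintype.card F - 1) := Nat.gcd_pos_of_pos_left _ two_pos
  rw [← hqd] at hq4 hq7 hA h hd hf
  have hpq : ∀ {r : ℕ}, r.Prime → r ∣ q + 1 → r ≠ p := by
    rintro r hr h1 rfl
    have h2 : r ∣ q := by
      rw [hf]
      exact dvd_pow_self r (fun e => by rw [e, pow_zero] at hf; clear hd hcp hcard hqd; omega)
    have := Nat.dvd_sub h1 h2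
    rw [show q + 1 - q = 1 by omega] at this
    exact hr.not_dvd_one this
  have hA0 : 0 < A := lt_trans zero_lt_one h.A_lt
  have hsq : q ^ 2 - 1 = (q + 1) * (q - 1) := by rw [← Nat.sq_sub_sq, one_pow]
  refine psl_of_sylow (p := p) (f := f) (hqd ▸ hf) (hqd ▸ hq4) (hqd ▸ hq7) hcard h.quotient_cc
    (fun Q => sylow_comm h.quotient_cc h.quotient_cen Q) ?_ ?_
  · intro r e hr hre t ht hC
    rw [← hqd] at hre hC
    have he0 : e ≠ 0 := fun e0 => by rw [e0, pow_zero] at hre; omega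
    have hr1 : r ∣ q + 1 := hre ▸ dvd_pow_self r he0
    obtain ⟨x, -, m, hm, -, j, hj, hrm⟩ := h.quotient_prime hr (hpq hr hr1) ht
    have hCA : _ = A := Nat.eq_of_mul_eq_mul_right hd (hC.trans hA.symm)
    rw [hCA, mul_comm (r ^ j)] at hj
    have hmr : m = r ^ j := Nat.eq_of_mul_eq_mul_left hA0 hj
    have hbad : ∀ i, r ∣ i → (∃ c, i * c = q - 1) → r = 2 := by
      rintro i h1 ⟨c, hc⟩
      have := Nat.dvd_sub hr1 (hc ▸ dvd_mul_of_dvd_left h1 c)
      rw [show q + 1 - (q - 1) = 2 by omega] at this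
      exact (Nat.prime_dvd_prime_iff_eq hr Nat.prime_two).mp this
    have htwo : r = 2 → q % 4 = 3 := by
      rintro rfl
      rcases e with _ | _ | e
      · exact absurd rfl he0
      · rw [pow_one] at hre; omega
      · rw [pow_succ, pow_succ] at hre; omega
    have hsmall : m ≠ q + 1 := by
      intro hmq
      rw [hmq] at hrm
      have h1 : r * (q + 1) ∣ (q - 1) * (q + 1) := by
        rw [mul_comm (q - 1), ← hsq, ← hA]
        exact dvd_mul_of_dvd_left hrm _
      have h2 := Nat.dvd_of_mul_dvd_mul_right (by omega) h1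
      have hr2 := hbad (q - 1) h2 ⟨1, mul_one _⟩
      have h4 := htwo hr2
      rw [hr2] at hrm
      have hd2 : Nat.gcd 2 (q - 1) = 2 := Nat.gcd_eq_left (by omega)
      rw [hd2, hsq] at hA
      have h1' : (2 * (q + 1)) * 2 ∣ (q + 1) * (q - 1) := hA ▸ mul_dvd_mul_right hrm 2
      rw [show 2 * (q + 1) * 2 = (q + 1) * 4 by ring] at h1'
      have := Nat.dvd_of_mul_dvd_mul_left (by omega) h1'
      omega
    rcases j with _ | j
    · rw [pow_zero] at hmr
      rcases pslM_cases hm with ⟨-, hc⟩ | ⟨-, hc⟩ | ⟨h4, hc⟩ <;> omega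
    have hrm' : r ∣ m := hmr ▸ dvd_pow_self r (Nat.succ_ne_zero j)
    rcases pslM_cases hm with ⟨hev, hc⟩ | ⟨h1, hc⟩ | ⟨h3, hc⟩
    · rcases hc with hc | hc
      · have := htwo (hbad _ hrm' ⟨1, by omega⟩)
        obtain ⟨i, hi⟩ := hev
        omega
      · exact hsmall hc
    · rcases hc with hc | hc | hc
      · have h2 : r = 2 := by
          by_contra h2
          have hrp : r ∣ q + 1 := hr1
          rcases e with _ | _ | e
          · exact he0 rfl
          · have hq2 : 2 ∣ r := by rw [← pow_one r, ← hre]; omega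
            exact h2 ((Nat.prime_dvd_prime_iff_eq Nat.prime_two hr).mp hq2).symm
          · have hq2 : 2 ∣ r ^ (e + 1 + 1) := by rw [← hre]; omega
            exact h2 ((Nat.prime_dvd_prime_iff_eq Nat.prime_two hr).mp (Nat.prime_two.dvd_of_dvd_pow hq2)).symm
        have := htwo h2
        omega
      · have := htwo (hbad _ hrm' ⟨1, by omega⟩)
        omega
      · exact hsmall hc
    · rcases hc with hc | hc | hc
      · have h2 := hbad _ hrm' ⟨2, by omega⟩
        subst h2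
        omega
      · have h2 := hbad _ hrm' ⟨1, by omega⟩
        subst h2
        rcases j with _ | j
        · rw [pow_one] at hmr; omega
        · rw [pow_succ, pow_succ] at hmr; omega
      · exact hsmall hc
  · intro hq3 t ht
    rw [← hqd] at hq3 ⊢
    have h2p : 2 ≠ p := hpq Nat.prime_two (by omega)
    obtain ⟨x, -, m, hm, -, j, hj, h2m⟩ := h.quotient_prime Nat.prime_two h2p ht
    have hCdvd := Subgroup.card_subgroup_dvd_card (Subgroup.centralizer ({t} : Set (G ⧸ Subgroup.center G)))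
    rw [h.card_quotient] at hCdvd
    obtain ⟨C, hC⟩ : ∃ C, Nat.card (Subgroup.centralizer ({t} : Set (G ⧸ Subgroup.center G))) = C := ⟨_, rfl⟩
    rw [hC] at hj hCdvd ⊢
    have hd2 : Nat.gcd 2 (q - 1) = 2 := Nat.gcd_eq_left (by omega)
    rw [hd2, hsq] at hA
    have hqo : Odd q := Nat.odd_iff.mpr (by omega)
    have hjm : 2 ^ j ∣ q * m := by
      have h1 : 2 ^ j * A ∣ (q * m) * A := by
        rw [← hj, show q * m * A = q * A * m by ring]
        exact mul_dvd_mul_right hCdvd m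
      exact Nat.dvd_of_mul_dvd_mul_right hA0 h1
    have hjm' : 2 ^ j ∣ m := ((Nat.coprime_two_left.mpr hqo).pow_left j).dvd_of_dvd_mul_left hjm
    rcases pslM_cases hm with ⟨hev, -⟩ | ⟨h1, -⟩ | ⟨-, hc⟩
    · exact absurd hev (Nat.not_even_iff_odd.mpr hqo)
    · omega
    rcases hc with hc | hc | hc
    · have hj0 : j = 0 := by
        by_contra hj0
        have := (dvd_pow_self 2 hj0).trans hjm'
        omega
      rw [hj0, pow_zero, one_mul] at hj
      have h2 : C * (q - 1) = (q + 1) * (q - 1) := by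
        rw [← hA, ← hj, show q - 1 = m * 2 by omega, mul_assoc]
      exact (Nat.eq_of_mul_eq_mul_right (by omega) h2).le
    · have hj1 : j ≤ 1 := by
        by_contra hj1
        have := (pow_dvd_pow 2 (show 2 ≤ j by omega)).trans hjm'
        omega
      have h2 : 2 * C * (q - 1) = (2 ^ j * (q + 1)) * (q - 1) := by
        rw [mul_assoc (2 ^ j), ← hA, ← mul_assoc, ← hj, hc]; ring
      have h3 := Nat.eq_of_mul_eq_mul_right (by omega) h2
      have h4 : 2 ^ j * (q + 1) ≤ 2 * (q + 1) :=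
        Nat.mul_le_mul_right _ ((Nat.pow_le_pow_right two_pos hj1).trans (by norm_num))
      omega
    · exfalso
      subst hc
      have h2' : (2 * (q + 1)) * 2 ∣ (q + 1) * (q - 1) := hA ▸ mul_dvd_mul_right h2m 2
      rw [show 2 * (q + 1) * 2 = (q + 1) * 4 by ring] at h2'
      have := Nat.dvd_of_mul_dvd_mul_left (by omega) h2'
      omega

end Cfsg.Agent.Lie.ClassSizePSL
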