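import Mathlib
import Cfsg.Agent.Lib.Lie.PSLClassSizes.Main
import Cfsg.Agent.Lib.Lie.PSLClassSizes.PSLFacts
import Cfsg.Agent.Lib.Classical.CyclicNormalizer.Sylow
import Cfsg.Agent.S0262

/-!
A group with the class sizes of `PSL(2,q)` is the direct product of its derived group and its centre.
-/

set_option autoImplicit false
set_option linter.unusedSectionVars false
set_option linter.style.haveILetI false
set_option maxHeartbeats 1000000

namespace Cfsg.Agent.Lie.ClassSizePSL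

universe u v

/-- Transfer: a central element of the derived group is trivial as soon as every Sylow subgroup meets
the centre trivially in its derived group. -/
theorem commutator_inf_center_eq_bot {G : Type u} [Group G] [Finite G]
    (h : ∀ r : ℕ, r.Prime → ∀ R : Sylow r G, ∀ z : G, z ∈ Subgroup.center G →
      z ∈ ⁅(R : Subgroup G), (R : Subgroup G)⁆ → z = 1) :
    commutator G ⊓ Subgroup.center G = ⊥ := by
  rw [Subgroup.eq_bot_iff_forall]
  intro z hz
  by_contra hz1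
  obtain ⟨r, hr, hrd⟩ := Nat.exists_prime_and_dvd (fun e => hz1 (orderOf_eq_one_iff.mp e))
  haveI := Fact.mk hr
  obtain ⟨z', hz', hzo⟩ : ∃ z' ∈ commutator G ⊓ Subgroup.center G, orderOf z' = r :=
    ⟨z ^ (orderOf z / r), pow_mem hz _, orderOf_pow_orderOf_div (orderOf_pos z).ne' hrd⟩
  obtain ⟨R, hR⟩ := exists_sylow_mem (r := r) (g := z') ⟨1, orderOf_dvd_iff_pow_eq_one.mp (by rw [hzo, pow_one])⟩
  have hc : ∀ g : G, g * z' = z' * g := fun g => Subgroup.mem_center_iff.mp hz'.2 g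
  have key : ∀ (k : ℕ) (g₀ : G), g₀⁻¹ * z' ^ k * g₀ ∈ (R : Subgroup G) → g₀⁻¹ * z' ^ k * g₀ = z' ^ k :=
    fun k g₀ _ => by
      rw [mul_assoc, ← ((show Commute g₀ z' from hc g₀).pow_right k).eq, inv_mul_cancel_left]
  have h1 := MonoidHom.transfer_eq_pow (Abelianization.of (G := (R : Subgroup G))) z' key
  have h2 : MonoidHom.transfer (Abelianization.of (G := (R : Subgroup G))) z' = 1 :=
    Abelianization.commutator_subset_ker _ hz'.1
  rw [h2] at h1
  have h3 : (⟨z' ^ (R : Subgroup G).index, pow_mem hR _⟩ : (R : Subgroup G)) ∈ commutator (R : Subgroup G) := by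
    rw [← Abelianization.ker_of, MonoidHom.mem_ker]
    exact h1.symm
  have h4 : z' ^ (R : Subgroup G).index ∈ ⁅(R : Subgroup G), (R : Subgroup G)⁆ := by
    rw [← Subgroup.map_subtype_commutator]
    exact ⟨_, h3, rfl⟩
  have h5 := h r hr R _ (pow_mem hz'.2 _) h4
  have h6 := orderOf_dvd_of_pow_eq_one h5
  rw [hzo] at h6
  exact R.not_dvd_index h6

/-- A subgroup which is cyclic modulo the centre is commutative. -/
theorem comm_of_cyclic_map {G : Type u} [Group G] {Y : Type v} [Group Y] (ψ : G →* Y)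
    (hker : ψ.ker = Subgroup.center G) {H : Subgroup G} (hH : IsCyclic (H.map ψ)) :
    ∀ a ∈ H, ∀ b ∈ H, a * b = b * a := fun a ha b hb =>
  congrArg Subtype.val (commutative_of_cyclic_center_quotient (ψ.subgroupMap H) (fun x hx => by
    rw [Subgroup.mem_center_iff]
    intro y
    have h1 : (x : G) ∈ Subgroup.center G := hker ▸ (congrArg Subtype.val hx : ψ x = 1)
    exact Subtype.ext (Subgroup.mem_center_iff.mp h1 y)) ⟨a, ha⟩ ⟨b, hb⟩)

/-- Commutators of a subgroup with an abelian subgroup inverted modulo the centre by the outside. -/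
theorem derived_trivial {G : Type u} [Group G] [Finite G] {Y : Type v} [Group Y] (ψ : G →* Y)
    (hker : ψ.ker = Subgroup.center G) {R : Subgroup G} {C' : Subgroup Y} (hC : IsCyclic C')
    (hinv : ∀ y ∈ R.map ψ, y ∉ C' → (∀ c ∈ C', y * c * y⁻¹ = c⁻¹) ∧ ∀ y' ∈ R.map ψ, y' ∉ C' → y * y' ∈ C')
    (hfull : ∀ x g : G, orderOf (ψ x) = 2 → Commute (ψ g) (ψ x) → Commute g x)
    {z : G} (hz : z ∈ Subgroup.center G) (hzR : z ∈ ⁅R, R⁆) : z = 1 := by
  obtain ⟨C, hCdef⟩ : ∃ C : Subgroup G, C = R ⊓ C'.comap ψ := ⟨_, rfl⟩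
  have hCmem : ∀ g, g ∈ C ↔ g ∈ R ∧ ψ g ∈ C' := fun g => by rw [hCdef]; rfl
  have hCc : ∀ a ∈ C, ∀ b ∈ C, Commute a b := comm_of_cyclic_map ψ hker (by
    haveI := hC
    exact Subgroup.isCyclic_of_le (show C.map ψ ≤ C' by
      rintro _ ⟨g, hg, rfl⟩
      exact ((hCmem g).mp hg).2))
  by_cases hout : ∃ s ∈ R, s ∉ C
  swap
  · push Not at hout
    rw [(Subgroup.commutator_eq_bot_iff_le_centralizer).mpr (fun a ha b hb => hCc b (hout b hb) a (hout a ha)),
      Subgroup.mem_bot] at hzR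
    exact hzR
  obtain ⟨s, hs, hsC⟩ := hout
  have hconj : ∀ y ∈ R, y ∉ C → ∀ c ∈ C, y * c * y⁻¹ ∈ C ∧ ψ (y * c * y⁻¹) = (ψ c)⁻¹ := fun y hy hyC c hc => by
    have h1 := (hinv (ψ y) ⟨y, hy, rfl⟩ (fun h => hyC ((hCmem y).mpr ⟨hy, h⟩))).1 _ ((hCmem c).mp hc).2
    have h2 : ψ (y * c * y⁻¹) = (ψ c)⁻¹ := by rw [map_mul, map_mul, map_inv, h1]
    refine ⟨(hCmem _).mpr ⟨mul_mem (mul_mem hy ((hCmem c).mp hc).1) (inv_mem hy), ?_⟩, h2⟩
    rw [h2]
    exact inv_mem ((hCmem c).mp hc).2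
  have hdec : ∀ y ∈ R, y ∈ C ∨ ∃ c ∈ C, y = c * s := fun y hy => by
    by_cases hyC : y ∈ C
    · exact Or.inl hyC
    refine Or.inr ⟨y * s⁻¹, (hCmem _).mpr ⟨mul_mem hy (inv_mem hs), ?_⟩, by group⟩
    have hsC' : ψ s ∉ C' := fun h => hsC ((hCmem s).mpr ⟨hs, h⟩)
    rw [map_mul]
    exact (hinv (ψ y) ⟨y, hy, rfl⟩ (fun h => hyC ((hCmem y).mpr ⟨hy, h⟩))).2 _ ⟨s⁻¹, inv_mem hs, rfl⟩
      (fun h => hsC' (by rw [map_inv] at h; exact inv_mem_iff.mp h))
  let θ : C →* C := MonoidHom.mk' (fun c => ⟨s * c * s⁻¹, (hconj s hs hsC c c.2).1⟩)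
    (fun a b => Subtype.ext (show s * ((a : G) * b) * s⁻¹ = s * a * s⁻¹ * (s * b * s⁻¹) by group))
  letI : CommGroup C := { (inferInstance : Group C) with mul_comm := fun a b => Subtype.ext (hCc a a.2 b b.2) }
  let δ : C →* C := MonoidHom.mk' (fun c => c * (θ c)⁻¹) (fun a b => by
    show a * b * (θ (a * b))⁻¹ = a * (θ a)⁻¹ * (b * (θ b)⁻¹)
    rw [map_mul, mul_inv, mul_mul_mul_comm])
  have hI : ∀ c : C, (δ c : G) = c * (s * c * s⁻¹)⁻¹ := fun c => rfl
  have hle : ⁅R, R⁆ ≤ (δ.range).map C.subtype := by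
    rw [Subgroup.commutator_le]
    intro a ha b hb
    rw [commutatorElement_def]
    rcases hdec a ha with ha' | ⟨c, hc, rfl⟩ <;> rcases hdec b hb with hb' | ⟨d, hd, rfl⟩
    · rw [show a * b * a⁻¹ * b⁻¹ = 1 by rw [(hCc a ha' b hb').eq]; group]
      exact one_mem _
    · refine ⟨δ ⟨a, ha'⟩, ⟨_, rfl⟩, ?_⟩
      show a * (s * a * s⁻¹)⁻¹ = _
      have h1 : Commute d a := hCc d hd a ha'
      have h2 : Commute d (s * a⁻¹ * s⁻¹) := hCc d hd _ (hconj s hs hsC _ (inv_mem ha')).1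
      calc a * (s * a * s⁻¹)⁻¹ = a * (s * a⁻¹ * s⁻¹ * d) * d⁻¹ := by group
        _ = a * (d * (s * a⁻¹ * s⁻¹)) * d⁻¹ := by rw [h2.eq]
        _ = a * (d * s) * a⁻¹ * (d * s)⁻¹ := by group
    · refine ⟨δ ⟨b, hb'⟩⁻¹, ⟨_, rfl⟩, ?_⟩
      show b⁻¹ * (s * b⁻¹ * s⁻¹)⁻¹ = _
      have h2 : Commute c (s * b * s⁻¹) := hCc c hc _ (hconj s hs hsC b hb').1
      have h3 : Commute b⁻¹ (s * b * s⁻¹) := hCc _ (inv_mem hb') _ (hconj s hs hsC b hb').1
      calc b⁻¹ * (s * b⁻¹ * s⁻¹)⁻¹ = b⁻¹ * (s * b * s⁻¹) := by group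
        _ = (s * b * s⁻¹ * c) * c⁻¹ * b⁻¹ := by rw [h3.eq]; group
        _ = (c * (s * b * s⁻¹)) * c⁻¹ * b⁻¹ := by rw [h2.eq]
        _ = c * s * b * (c * s)⁻¹ * b⁻¹ := by group
    · refine ⟨δ (⟨c, hc⟩ * ⟨d, hd⟩⁻¹), ⟨_, rfl⟩, ?_⟩
      show c * d⁻¹ * (s * (c * d⁻¹) * s⁻¹)⁻¹ = _
      have hD := (hconj s hs hsC d hd).1
      have hC2 := (hconj s hs hsC c⁻¹ (inv_mem hc)).1
      have h1 : Commute d⁻¹ ((s * d * s⁻¹) * (s * c⁻¹ * s⁻¹)) := hCc _ (inv_mem hd) _ (mul_mem hD hC2)
      calc c * d⁻¹ * (s * (c * d⁻¹) * s⁻¹)⁻¹ = c * (d⁻¹ * ((s * d * s⁻¹) * (s * c⁻¹ * s⁻¹))) := by group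
        _ = c * (((s * d * s⁻¹) * (s * c⁻¹ * s⁻¹)) * d⁻¹) := by rw [h1.eq]
        _ = c * s * (d * s) * (c * s)⁻¹ * (d * s)⁻¹ := by group
  obtain ⟨-, ⟨c, rfl⟩, hcz⟩ := hle hzR
  have hcz' : (c : G) * (s * c * s⁻¹)⁻¹ = z := hcz
  have hψz : ψ z = 1 := by rw [← MonoidHom.mem_ker, hker]; exact hz
  have hsq : ψ (c : G) ^ 2 = 1 := by
    rw [← hψz, ← hcz', map_mul, map_inv, (hconj s hs hsC c c.2).2, inv_inv, sq]
  by_cases hc1 : ψ (c : G) = 1
  · rw [← MonoidHom.mem_ker, hker, Subgroup.mem_center_iff] at hc1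
    rw [← hcz', hc1 s, mul_inv_cancel_right, mul_inv_cancel]
  · have h2 : orderOf (ψ (c : G)) = 2 := orderOf_eq_prime hsq hc1
    have h3 : Commute (ψ s) (ψ (c : G)) := by
      refine mul_inv_eq_iff_eq_mul.mp ?_
      rw [← map_mul, ← map_inv, ← map_mul, (hconj s hs hsC c c.2).2]
      exact inv_eq_of_mul_eq_one_right (by rw [← sq, hsq])
    rw [← hcz', (hfull _ s h2 h3).eq, mul_inv_cancel_right, mul_inv_cancel]

variable {G : Type u} [Group G] [Finite G]

/-- The decomposition. -/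
theorem split {F : Type v} [Field F] [Fintype F] {p f A : ℕ} [hp : Fact p.Prime]
    (hf : Fintype.card F = p ^ f) (hq4 : 4 ≤ Fintype.card F)
    (hq7 : Odd (Fintype.card F) → 7 ≤ Fintype.card F)
    (hA : A * Nat.gcd 2 (Fintype.card F - 1) = Fintype.card F ^ 2 - 1)
    (h : SizeData G p (Fintype.card F) A (pslM (Fintype.card F))) :
    ∃ N A : Subgroup G, N.Normal ∧ A ≤ Subgroup.center G ∧ N ⊓ A = ⊥ ∧ N ⊔ A = ⊤ ∧
      Nonempty (N ≃* Matrix.ProjectiveSpecialLinearGroup (Fin 2) F) := by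
  classical
  obtain ⟨φ⟩ := quotient_iso hf hq4 hq7 hA h
  set ψ : G →* Matrix.ProjectiveSpecialLinearGroup (Fin 2) F :=
    φ.toMonoidHom.comp (QuotientGroup.mk' (Subgroup.center G)) with hψ
  have hsurj : Function.Surjective ψ := φ.surjective.comp (QuotientGroup.mk'_surjective _)
  have hker : ψ.ker = Subgroup.center G := by
    ext g
    rw [MonoidHom.mem_ker, hψ, MonoidHom.comp_apply]
    show φ (QuotientGroup.mk' (Subgroup.center G) g) = 1 ↔ _
    exact (MulEquiv.map_eq_one_iff φ).trans (QuotientGroup.eq_one_iff g)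
  haveI := charP_of_card_eq_prime_pow (R := F) hf
  have hidx : ∀ g : G, ((Subgroup.centralizer ({g} : Set G)).map ψ).index = cidx g := fun g =>
    Subgroup.index_map_eq _ hsurj (by rw [hker]; exact Subgroup.center_le_centralizer _)
  have hle : ∀ g : G, (Subgroup.centralizer ({g} : Set G)).map ψ ≤ Subgroup.centralizer {ψ g} := by
    rintro g _ ⟨x, hx, rfl⟩
    rw [Subgroup.mem_centralizer_singleton_iff, ← map_mul, ← map_mul,
      Subgroup.mem_centralizer_singleton_iff.mp hx]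
  have hψ1 : ∀ g : G, ψ g = 1 ↔ cidx g = 1 := fun g => by
    rw [← MonoidHom.mem_ker, hker, cidx_eq_one_iff]
  -- commutative preimage Sylow subgroups for the characteristic
  have hPcomm : ∀ P : Sylow p G, ∀ a ∈ (P : Subgroup G), ∀ b ∈ (P : Subgroup G), a * b = b * a := by
    intro P a ha b hb
    by_cases hb1 : cidx b = 1
    · exact Subgroup.mem_center_iff.mp (cidx_eq_one_iff.mp hb1) a
    obtain ⟨k, hk⟩ := P.2 ⟨b, hb⟩
    have hbA := h.p_elem_A ⟨k, congrArg Subtype.val hk⟩ hb1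
    let π := QuotientGroup.mk' (Subgroup.center G)
    obtain ⟨S, hS⟩ : ∃ S : Sylow p (G ⧸ Subgroup.center G), (S : Subgroup _) = (P : Subgroup G).map π :=
      ⟨P.mapSurjective (f := π) (QuotientGroup.mk'_surjective _), Sylow.coe_mapSurjective _ _⟩
    have hC2 : IsPGroup p (Subgroup.centralizer ({π b} : Set (G ⧸ Subgroup.center G))) :=
      cent_isPGroup h.quotient_cc (fun e => hb1 (cidx_eq_one_iff.mpr ((QuotientGroup.eq_one_iff b).mp e)))
        ⟨k, by rw [← map_pow, show b ^ p ^ k = 1 from congrArg Subtype.val hk, map_one]⟩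
    have h1 : Subgroup.centralizer ({π b} : Set (G ⧸ Subgroup.center G)) = (S : Subgroup _) := by
      refine S.is_maximal' hC2 fun y hy => Subgroup.mem_centralizer_singleton_iff.mpr ?_
      exact sylow_comm h.quotient_cc h.quotient_cen S y hy (π b) (hS.symm ▸ ⟨b, hb, rfl⟩)
    have hp' : IsPGroup p ((Subgroup.centralizer ({b} : Set G)).map π) := hC2.to_le (SizeData.cent_map_le b)
    have hi : ¬ p ∣ ((Subgroup.centralizer ({b} : Set G)).map π).index := by
      rw [SizeData.index_cent_map, hbA]; exact h.A_p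
    have h2 : Subgroup.centralizer ({π b} : Set (G ⧸ Subgroup.center G)) = (Subgroup.centralizer ({b} : Set G)).map π := by
      have := (hp'.toSylow hi).is_maximal' hC2 (by rw [IsPGroup.toSylow_coe]; exact SizeData.cent_map_le b)
      rwa [IsPGroup.toSylow_coe] at this
    have h3 : π a ∈ (Subgroup.centralizer ({b} : Set G)).map π := by
      rw [← h2, h1, hS]; exact ⟨a, ha, rfl⟩
    obtain ⟨x, hx, hxa⟩ := h3
    have h4 : x⁻¹ * a ∈ Subgroup.centralizer ({b} : Set G) := Subgroup.center_le_centralizer _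
      ((QuotientGroup.eq).mp hxa)
    have h5 := mul_mem hx h4
    rw [mul_inv_cancel_left] at h5
    exact Subgroup.mem_centralizer_singleton_iff.mp h5
  have hbot : commutator G ⊓ Subgroup.center G = ⊥ := by
    refine commutator_inf_center_eq_bot fun r hr R z hz hzR => ?_
    haveI := Fact.mk hr
    have hcommR : (∀ a ∈ (R : Subgroup G), ∀ b ∈ (R : Subgroup G), a * b = b * a) → z = 1 := fun hc => by
      rw [Subgroup.commutator_eq_bot_iff_le_centralizer.mpr (fun a ha b hb => hc b hb a ha),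
        Subgroup.mem_bot] at hzR
      exact hzR
    by_cases hrp : r = p
    · subst hrp
      exact hcommR (hPcomm R)
    by_cases hr2 : r = 2
    swap
    · refine hcommR (comm_of_cyclic_map ψ hker ?_)
      obtain ⟨R₁⟩ := (inferInstance : Nonempty (Sylow r (Matrix.SpecialLinearGroup (Fin 2) F)))
      haveI hc := Cfsg.Agent.S0262.result (F := F) p r hr2 hrp R₁
      let S := R₁.mapSurjective (f := Cfsg.Agent.Small.PSL2.pr) Cfsg.Agent.Small.PSL2.pr_surjective
      haveI : IsCyclic (S : Subgroup (Matrix.ProjectiveSpecialLinearGroup (Fin 2) F)) :=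
        isCyclic_of_surjective ((Cfsg.Agent.Small.PSL2.pr).subgroupMap (R₁ : Subgroup _))
          (MonoidHom.subgroupMap_surjective _ _)
      obtain ⟨c, hc'⟩ := MulAction.exists_smul_eq (Matrix.ProjectiveSpecialLinearGroup (Fin 2) F) S
        (R.mapSurjective hsurj)
      rw [← Sylow.coe_mapSurjective hsurj R, ← hc', Sylow.coe_subgroup_smul]
      exact isCyclic_of_surjective ((MulAut.conj c).toMonoidHom.subgroupMap (S : Subgroup _))
        (MonoidHom.subgroupMap_surjective _ _)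
    subst hr2
    have hodd : ¬ 2 ∣ Fintype.card F := by
      rw [hf]
      exact fun e => hrp ((Nat.prime_dvd_prime_iff_eq Nat.prime_two hp.out).mp (Nat.prime_two.dvd_of_dvd_pow e))
    have h2 : (2 : F) ≠ 0 := Small.SL2C.not_two_dvd_iff.mp hodd
    have hO : Odd (Fintype.card F) := Nat.not_even_iff_odd.mp fun e => hodd e.two_dvd
    have h7 := hq7 hO
    obtain ⟨C', hC', hC''⟩ := sylow_two_inverted h2 (R.mapSurjective hsurj)
    refine derived_trivial ψ hker hC' (fun y hy => hC'' y hy) ?_ hz hzR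
    -- the involutions of the quotient
    intro x g hx hgx
    obtain ⟨s, m, hm, hsm, hodd'⟩ := h.exr 2 Nat.prime_two hrp
    obtain ⟨i, hi, rfl⟩ : ∃ i, ((Fintype.card F % 4 = 1 ∧ i = (Fintype.card F + 1) / 2) ∨
        (Fintype.card F % 4 = 3 ∧ i = (Fintype.card F - 1) / 2)) ∧ m = i := by
      have hm' : ¬ 2 ∣ m := fun e => hodd' (dvd_mul_of_dvd_right e _)
      obtain ⟨j, hj⟩ := hO
      rcases pslM_cases hm with ⟨hev, -⟩ | ⟨h1, hc⟩ | ⟨h3, hc⟩
      · exact absurd hev.two_dvd hodd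
      · rcases hc with hc | hc | hc
        · exact ⟨m, Or.inl ⟨h1, hc⟩, rfl⟩
        · exact absurd ⟨j, by omega⟩ hm'
        · exact absurd ⟨j + 1, by omega⟩ hm'
      · rcases hc with hc | hc | hc
        · exact ⟨m, Or.inr ⟨h3, hc⟩, rfl⟩
        · exact absurd ⟨j, by omega⟩ hm'
        · exact absurd ⟨j + 1, by omega⟩ hm'
    have hm0 := (h.mem_M m hm).1
    have hs1 : ψ s ≠ 1 := fun e => by
      rw [hψ1, hsm] at e
      have := Nat.eq_one_of_mul_eq_one_right e
      omega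
    have hdvd : ∀ y : G, cidx y = Fintype.card F * m →
        (Subgroup.centralizer ({ψ y} : Set _)).index ∣ Fintype.card F * m := fun y hy =>
      hy ▸ hidx y ▸ Subgroup.index_dvd_of_le (hle y)
    obtain ⟨c, hc⟩ := isConj_iff.mp ((invol_class h2 h7 hi hs1 (hdvd s hsm)).2 (ψ x) hx)
    obtain ⟨c, rfl⟩ := hsurj c
    have hxs : cidx x = Fintype.card F * m := by
      have hz' : x⁻¹ * (c * s * c⁻¹) ∈ Subgroup.center G := by
        rw [← hker, MonoidHom.mem_ker, map_mul, map_mul, map_mul, map_inv, map_inv, hc, inv_mul_cancel]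
      rw [← hsm, ← cidx_conj c s]
      refine congrArg Subgroup.index (Subgroup.ext fun y => ?_)
      have hy : Commute y (x⁻¹ * (c * s * c⁻¹)) := Subgroup.mem_center_iff.mp hz' y
      rw [Subgroup.mem_centralizer_singleton_iff, Subgroup.mem_centralizer_singleton_iff]
      constructor <;> intro e
      · have := (show Commute y x from e).mul_right hy
        rwa [mul_inv_cancel_left] at this
      · have := (show Commute y (c * s * c⁻¹) from e).mul_right hy.inv_right
        rwa [mul_inv_rev, inv_inv, mul_inv_cancel_left] at this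
    have hx1 : ψ x ≠ 1 := fun e => by rw [e, orderOf_one] at hx; omega
    have heq := (invol_class h2 h7 hi hx1 (hdvd x hxs)).1
    have hEq : (Subgroup.centralizer ({x} : Set G)).map ψ = Subgroup.centralizer {ψ x} := by
      refine Subgroup.eq_of_le_of_card_ge (hle x) ?_
      have h1 := Subgroup.card_mul_index ((Subgroup.centralizer ({x} : Set G)).map ψ)
      have h2' := Subgroup.card_mul_index (Subgroup.centralizer ({ψ x} : Set _))
      rw [hidx, hxs] at h1
      rw [heq] at h2'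
      exact (Nat.eq_of_mul_eq_mul_right (Nat.mul_pos (by omega) hm0) (h2'.trans h1.symm)).le
    obtain ⟨y, hy, hyg⟩ : ψ g ∈ (Subgroup.centralizer ({x} : Set G)).map ψ := by
      rw [hEq, Subgroup.mem_centralizer_singleton_iff]; exact hgx
    have h4 : y⁻¹ * g ∈ Subgroup.centralizer ({x} : Set G) := by
      refine Subgroup.center_le_centralizer _ ?_
      rw [← hker, MonoidHom.mem_ker, map_mul, map_inv, hyg, inv_mul_cancel]
    have h5 := mul_mem hy h4
    rw [mul_inv_cancel_left] at h5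
    exact Subgroup.mem_centralizer_singleton_iff.mp h5
  haveI : IsSimpleGroup (Matrix.ProjectiveSpecialLinearGroup (Fin 2) F) :=
    Matrix.ProjectiveSpecialLinearGroup.rank_two_simple (by rw [Nat.card_eq_fintype_card]; omega)
  have hperf : commutator (Matrix.ProjectiveSpecialLinearGroup (Fin 2) F) = ⊤ := by
    refine Classical.CyclicNormalizer.commutator_eq_top ?_
    by_contra hcon
    push Not at hcon
    letI : CommGroup (Matrix.ProjectiveSpecialLinearGroup (Fin 2) F) :=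
      { (inferInstance : Group _) with mul_comm := hcon }
    have hprime : (Nat.card (Matrix.ProjectiveSpecialLinearGroup (Fin 2) F)).Prime := IsSimpleGroup.prime_card
    rw [← Nat.card_congr φ.toEquiv, h.card_quotient] at hprime
    rcases Nat.prime_mul_iff.mp hprime with ⟨-, h1⟩ | ⟨-, h1⟩
    · have := h.A_lt; omega
    · omega
  refine ⟨commutator G, Subgroup.center G, inferInstance, le_rfl, hbot, ?_, ?_⟩
  · rw [← hker, ← Subgroup.comap_map_eq, commutator_def, Subgroup.map_commutator,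
      Subgroup.map_top_of_surjective ψ hsurj, ← commutator_def, hperf, Subgroup.comap_top]
  · refine ⟨MulEquiv.ofBijective (ψ.domRestrict (commutator G)) ⟨?_, fun y => ?_⟩⟩
    · rw [injective_iff_map_eq_one]
      intro a ha
      refine Subtype.ext (Subgroup.mem_bot.mp (hbot ▸ ⟨a.2, ?_⟩))
      show (a : G) ∈ Subgroup.center G
      rw [← hker]; exact ha
    · have hy : y ∈ (commutator G).map ψ := by
        rw [commutator_def, Subgroup.map_commutator, Subgroup.map_top_of_surjective ψ hsurj, ← commutator_def,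
          hperf]
        exact Subgroup.mem_top y
      obtain ⟨x, hx, rfl⟩ := hy
      exact ⟨⟨x, hx⟩, rfl⟩

end Cfsg.Agent.Lie.ClassSizePSL
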